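import Mathlib
import Cfsg.Agent.Lib.Helper15.Ward.Defs
import Cfsg.Agent.S0033

/-!
# Ward's theorem (S3796), piece D
-/

set_option autoImplicit false

namespace Cfsg.Agent.Lib.Helper77.Ward

open Subgroup Cfsg.Agent.Lib.Helper88 Cfsg.Agent.Lib.Helper15.Ward

theorem Hyp.not_dvd {Γ : Type*} [Group Γ] [Finite Γ] {p : ℕ} [Fact p.Prime] {G A : Subgroup Γ}
    (h : Hyp p G A) : ¬ p ∣ Nat.card G := by
  intro hdvd
  have hp : p.Prime := Fact.out
  have hA : IsPGroup p A := Cfsg.Agent.Lib.Helper22.isPGroup_of_pow_eq_one h.exp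
  have hcard : Nat.card (((G : Set Γ) \ {1} : Set Γ)) + 1 = Nat.card G := by
    have h1 : ({1} : Set Γ) ⊆ (G : Set Γ) := by
      intro x hx
      rw [Set.mem_singleton_iff.mp hx]
      exact G.one_mem
    have h2 := Set.ncard_sdiff_add_ncard_of_subset h1 (Set.toFinite _)
    rw [Set.ncard_singleton] at h2
    rw [Nat.card_coe_set_eq, h2]
    exact (Nat.card_coe_set_eq _).symm
  have hS : ¬ p ∣ Nat.card (((G : Set Γ) \ {1} : Set Γ)) := by
    intro h3
    have h4 : p ∣ 1 := by
      have := (Nat.dvd_add_right h3).mp (hcard ▸ hdvd)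
      exact this
    exact hp.one_lt.ne' (Nat.dvd_one.mp h4)
  obtain ⟨s, hs, hsc⟩ := Cfsg.Agent.Lib.Helper22.exists_mem_centralizer_of_invariant_set A hA _ hS (by
    intro a _ s hs
    refine ⟨h.normal.conj_mem s hs.1 a, ?_⟩
    intro h5
    apply hs.2
    rw [Set.mem_singleton_iff] at h5 ⊢
    have : s = a⁻¹ * (a * s * a⁻¹) * a := by group
    rw [this, h5]; group)
  have h6 : s ∈ G ⊓ centralizer (A : Set Γ) := ⟨hs.1, hsc⟩
  rw [h.fix, mem_bot] at h6
  exact hs.2 (Set.mem_singleton_iff.mpr h6)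

/-- Thompson in ambient form. -/
theorem isNilpotent_of_fpf {Γ : Type*} [Group Γ] [Finite Γ] {p : ℕ} [Fact p.Prime]
    (H : Subgroup Γ) (b : Γ) (hb : b ∈ normalizer (H : Set Γ)) (hbp : b ^ p = 1)
    (hfix : H ⊓ centralizer {b} = ⊥) : Group.IsNilpotent ↥H := by
  have hp : p.Prime := Fact.out
  set φ : MulAut H := H.normalizerMonoidHom ⟨b, hb⟩ with hφ
  have hφa : ∀ x : H, ((φ x : H) : Γ) = b * x * b⁻¹ := fun x => rfl
  have hφp : φ ^ p = 1 := by
    rw [hφ, ← map_pow]
    have : (⟨b, hb⟩ : normalizer (H : Set Γ)) ^ p = 1 := Subtype.ext (by simpa using hbp)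
    rw [this, map_one]
  have hfpf : ∀ x : H, φ x = x → x = 1 := by
    intro x hx
    have h1 : b * (x : Γ) * b⁻¹ = x := by rw [← hφa, hx]
    have h2 : (x : Γ) ∈ H ⊓ centralizer {b} := by
      refine mem_inf.mpr ⟨x.2, ?_⟩
      rw [mem_centralizer_iff]
      intro y hy
      rw [Set.mem_singleton_iff.mp hy]
      calc b * (x : Γ) = b * x * b⁻¹ * b := by group
        _ = x * b := by rw [h1]
    rw [hfix, mem_bot] at h2
    exact Subtype.ext h2
  rcases (Nat.dvd_prime hp).mp (orderOf_dvd_of_pow_eq_one hφp) with h1 | h1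
  · have h2 : φ = 1 := orderOf_eq_one_iff.mp h1
    have h3 : ∀ x : H, x = 1 := fun x => hfpf x (by rw [h2]; rfl)
    have : Subsingleton H := ⟨fun x y => by rw [h3 x, h3 y]⟩
    infer_instance
  · exact Cfsg.Agent.S0033.result φ (fun x hx => hfpf x hx) p hp h1

theorem isNilpotent_of_bot {Γ : Type*} [Group Γ] {H : Subgroup Γ} (h : H = ⊥) :
    Group.IsNilpotent ↥H := by
  subst h
  infer_instance

/-- a subgroup `A` of exponent `p` and order dividing `p ^ 2` is generated by `a ≠ 1` and any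
`b ∉ ⟨a⟩`, so that the centralizer of `A` is `C(a) ∩ C(b)` -/
theorem centralizer_pair_le {Γ : Type*} [Group Γ] [Finite Γ] {p : ℕ} [Fact p.Prime]
    {A : Subgroup Γ} (hexp : ∀ x ∈ A, x ^ p = 1) (hcard : Nat.card A ∣ p ^ 2)
    (a b : Γ) (ha : a ∈ A) (ha1 : a ≠ 1) (hb : b ∈ A) (hba : b ∉ zpowers a) :
    centralizer {a} ⊓ centralizer {b} ≤ centralizer (A : Set Γ) := by
  have hp : p.Prime := Fact.out
  have hoa : orderOf a = p := orderOf_eq_prime (hexp a ha) ha1
  have hza : Nat.card (zpowers a) = p := by rw [Nat.card_zpowers, hoa]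
  have hle : zpowers a ≤ closure {a, b} := by
    rw [zpowers_le]; exact subset_closure (by simp)
  have hbc : b ∈ closure ({a, b} : Set Γ) := subset_closure (by simp)
  have hcA : closure ({a, b} : Set Γ) ≤ A := by
    rw [closure_le]
    intro x hx
    rcases hx with rfl | hx
    · exact ha
    · rw [Set.mem_singleton_iff.mp hx]; exact hb
  have hd1 : p ∣ Nat.card (closure ({a, b} : Set Γ)) := hza ▸ card_dvd_of_le hle
  have hd2 : Nat.card (closure ({a, b} : Set Γ)) ∣ p ^ 2 := (card_dvd_of_le hcA).trans hcard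
  obtain ⟨k, hk, hk2⟩ := (Nat.dvd_prime_pow hp).mp hd2
  have hk' : k = 2 := by
    interval_cases k
    · rw [hk2] at hd1
      exact absurd (Nat.dvd_one.mp (by simpa using hd1)) hp.one_lt.ne'
    · exfalso
      apply hba
      have : zpowers a = closure {a, b} :=
        eq_of_le_of_card_ge hle (by rw [hza, hk2, pow_one])
      rw [this]; exact hbc
    · rfl
  have hAeq : closure ({a, b} : Set Γ) = A := by
    apply eq_of_le_of_card_ge hcA
    rw [hk2, hk']
    exact Nat.le_of_dvd (pow_pos hp.pos 2) hcard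
  rw [← hAeq, centralizer_closure]
  intro x hx
  rw [mem_inf] at hx
  rw [mem_centralizer_iff]
  intro y hy
  rcases hy with rfl | hy
  · exact mem_centralizer_iff.mp hx.1 _ (Set.mem_singleton _)
  · exact mem_centralizer_iff.mp hx.2 _ hy

theorem isNilpotent_centralizer {Γ : Type*} [Group Γ] [Finite Γ] {p : ℕ} [Fact p.Prime]
    {G A : Subgroup Γ} (h : Hyp p G A) (a : Γ) (ha : a ∈ A) (ha1 : a ≠ 1) :
    Group.IsNilpotent ↥(G ⊓ centralizer {a}) := by
  by_cases hAz : ∀ b ∈ A, b ∈ zpowers a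
  · apply isNilpotent_of_bot
    have hA : A = zpowers a := le_antisymm hAz (by rw [zpowers_le]; exact ha)
    rw [← Cfsg.Agent.Lib.Helper22.centralizer_zpowers, ← hA]
    exact h.fix
  · push Not at hAz
    obtain ⟨b, hb, hba⟩ := hAz
    apply isNilpotent_of_fpf (p := p) _ b _ (h.exp b hb)
    · rw [eq_bot_iff, ← h.fix]
      intro x hx
      exact ⟨hx.1.1, centralizer_pair_le h.exp h.card a b ha ha1 hb hba ⟨hx.1.2, hx.2⟩⟩
    · rw [mem_normalizer_iff]
      intro x
      have hab : a * b = b * a := h.comm a ha b hb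
      have hab' : a * b⁻¹ = b⁻¹ * a := by
        calc a * b⁻¹ = b⁻¹ * (b * a) * b⁻¹ := by group
          _ = b⁻¹ * (a * b) * b⁻¹ := by rw [hab]
          _ = b⁻¹ * a := by group
      constructor
      · intro hx
        rw [mem_inf] at hx
        refine mem_inf.mpr ⟨h.normal.conj_mem x hx.1 b, ?_⟩
        have hx2 := mem_centralizer_iff.mp hx.2 a (Set.mem_singleton a)
        rw [mem_centralizer_iff]
        intro y hy
        rw [Set.mem_singleton_iff.mp hy]
        calc a * (b * x * b⁻¹) = (a * b) * x * b⁻¹ := by group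
          _ = b * (a * x) * b⁻¹ := by rw [hab]; group
          _ = b * x * (a * b⁻¹) := by rw [hx2]; group
          _ = b * x * b⁻¹ * a := by rw [hab']; group
      · intro hx
        rw [mem_inf] at hx
        have hx1 : x ∈ G := by
          have := h.normal.conj_mem _ hx.1 b⁻¹
          have h2 : b⁻¹ * (b * x * b⁻¹) * b⁻¹⁻¹ = x := by group
          rwa [h2] at this
        refine mem_inf.mpr ⟨hx1, ?_⟩
        have hx2 := mem_centralizer_iff.mp hx.2 a (Set.mem_singleton a)
        rw [mem_centralizer_iff]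
        intro y hy
        rw [Set.mem_singleton_iff.mp hy]
        calc a * x = b⁻¹ * ((b * a) * x * b⁻¹) * b := by group
          _ = b⁻¹ * (a * (b * x * b⁻¹)) * b := by rw [← hab]; group
          _ = b⁻¹ * (b * x * b⁻¹ * a) * b := by rw [hx2]
          _ = x * (b⁻¹ * a) * b := by group
          _ = x * (a * b⁻¹) * b := by rw [hab']
          _ = x * a := by group

theorem isNilpotent_of_card_ne {Γ : Type*} [Group Γ] [Finite Γ] {p : ℕ} [Fact p.Prime]
    {G A : Subgroup Γ} (h : Hyp p G A) (hc : Nat.card A ≠ p ^ 2) : Group.IsNilpotent ↥G := by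
  have hp : p.Prime := Fact.out
  obtain ⟨k, hk, hk2⟩ := (Nat.dvd_prime_pow hp).mp h.card
  have hGn : ∀ b : Γ, b ∈ normalizer (G : Set Γ) := by
    intro b
    have := h.normal
    rw [normalizer_eq_top]
    exact mem_top b
  by_cases hA1 : ∀ b ∈ A, b = 1
  · apply isNilpotent_of_bot
    rw [← h.fix]
    refine le_antisymm (fun x hx => mem_inf.mpr ⟨hx, ?_⟩) inf_le_left
    rw [mem_centralizer_iff]
    intro y hy
    rw [hA1 y hy]; simp
  · push Not at hA1
    obtain ⟨b, hb, hb1⟩ := hA1
    have hob : orderOf b = p := orderOf_eq_prime (h.exp b hb) hb1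
    have hzb : Nat.card (zpowers b) = p := by rw [Nat.card_zpowers, hob]
    have hle : zpowers b ≤ A := by rw [zpowers_le]; exact hb
    have hk1 : k = 1 := by
      interval_cases k
      · exfalso
        have := card_dvd_of_le hle
        rw [hzb, hk2] at this
        exact hp.one_lt.ne' (Nat.dvd_one.mp (by simpa using this))
      · rfl
      · exact absurd hk2 hc
    have hA : zpowers b = A := eq_of_le_of_card_ge hle (by rw [hzb, hk2, hk1, pow_one])
    apply isNilpotent_of_fpf (p := p) G b (hGn b) (h.exp b hb)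
    rw [← Cfsg.Agent.Lib.Helper22.centralizer_zpowers, hA]
    exact h.fix

end Cfsg.Agent.Lib.Helper77.Ward
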