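import Mathlib

/-!
# Group algebra toolbox (helper77)

Coefficientwise calculus in `MonoidAlgebra k G` for a finite group `G`: conjugation `cj`,
truncation to a subgroup `trunc`, support, fixed points, the subring `zsub H` (= centre of `k[H]`
inside `k[G]`), the fixed-point summation lemma for `p`-groups and the multiplicativity of the
Brauer map.
-/

set_option autoImplicit false
set_option linter.unusedSectionVars false

namespace Cfsg.Agent.Lib.Helper77

open MonoidAlgebra

universe u v

variable {k : Type v} [CommRing k] {G : Type u} [Group G]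

theorem ma_ext {a b : MonoidAlgebra k G} (h : ∀ g, a.coeff g = b.coeff g) : a = b :=
  MonoidAlgebra.ext (Finsupp.ext h)

/-- The element of the group algebra with prescribed coefficients. -/
noncomputable def ofFun [Finite G] (f : G → k) : MonoidAlgebra k G :=
  .ofCoeff (Finsupp.equivFunOnFinite.symm f)

@[simp] theorem coeff_ofFun [Finite G] (f : G → k) (g : G) : (ofFun f).coeff g = f g := rfl

theorem ofFun_coeff [Finite G] (a : MonoidAlgebra k G) : ofFun (fun g => a.coeff g) = a :=
  ma_ext fun _ => rfl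

theorem coeff_mul_left [Fintype G] (a b : MonoidAlgebra k G) (x : G) :
    (a * b).coeff x = ∑ y, a.coeff y * b.coeff (y⁻¹ * x) := by
  rw [coeff_mul_apply_left, Finsupp.sum_fintype]
  simp

theorem coeff_mul_right [Fintype G] (a b : MonoidAlgebra k G) (x : G) :
    (a * b).coeff x = ∑ y, a.coeff (x * y⁻¹) * b.coeff y := by
  rw [coeff_mul_apply_right, Finsupp.sum_fintype]
  simp

theorem coeff_one [DecidableEq G] (x : G) :
    (1 : MonoidAlgebra k G).coeff x = if x = 1 then 1 else 0 := by
  rw [MonoidAlgebra.one_def, coeff_single, Finsupp.single_apply]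
  simp [eq_comm]

theorem eq_sum_single [Fintype G] (a : MonoidAlgebra k G) :
    a = ∑ g, single g (a.coeff g) := by
  classical
  apply ma_ext
  intro x
  rw [coeff_sum, Finsupp.finsetSum_apply]
  simp [Finsupp.single_apply]

/-! ### Conjugation -/

/-- Conjugation by a group element, as a ring automorphism of the group algebra. -/
noncomputable def cj (g : G) : MonoidAlgebra k G ≃+* MonoidAlgebra k G where
  toFun a := single g 1 * a * single g⁻¹ 1
  invFun a := single g⁻¹ 1 * a * single g 1
  left_inv a := by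
    simp only [← mul_assoc, single_mul_single, inv_mul_cancel, mul_one]
    rw [mul_assoc, single_mul_single]
    simp [← MonoidAlgebra.one_def]
  right_inv a := by
    simp only [← mul_assoc, single_mul_single, mul_inv_cancel, mul_one]
    rw [mul_assoc, single_mul_single]
    simp [← MonoidAlgebra.one_def]
  map_mul' a b := by
    have h : (single g⁻¹ 1 : MonoidAlgebra k G) * single g 1 = 1 := by
      rw [single_mul_single]; simp [← MonoidAlgebra.one_def]
    calc single g 1 * (a * b) * single g⁻¹ 1
        = single g 1 * a * 1 * b * single g⁻¹ 1 := by simp only [mul_one, mul_assoc]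
      _ = single g 1 * a * single g⁻¹ 1 * (single g 1 * b * single g⁻¹ 1) := by
          rw [← h]; simp only [mul_assoc]
  map_add' a b := by simp only [mul_add, add_mul]

theorem cj_apply (g : G) (a : MonoidAlgebra k G) : cj g a = single g 1 * a * single g⁻¹ 1 := rfl

@[simp] theorem coeff_cj (g : G) (a : MonoidAlgebra k G) (x : G) :
    (cj g a).coeff x = a.coeff (g⁻¹ * x * g) := by
  rw [cj_apply, coeff_mul_single_apply, coeff_single_mul_apply]
  simp [mul_assoc]

theorem cj_mul_apply (g h : G) (a : MonoidAlgebra k G) : cj (g * h) a = cj g (cj h a) := by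
  apply ma_ext; intro x
  simp only [coeff_cj, mul_inv_rev, mul_assoc]

@[simp] theorem cj_one_apply (a : MonoidAlgebra k G) : cj (1 : G) a = a := by
  apply ma_ext; intro x; simp

@[simp] theorem cj_inv_cj (g : G) (a : MonoidAlgebra k G) : cj g⁻¹ (cj g a) = a := by
  rw [← cj_mul_apply]; simp

@[simp] theorem cj_cj_inv (g : G) (a : MonoidAlgebra k G) : cj g (cj g⁻¹ a) = a := by
  rw [← cj_mul_apply]; simp

theorem cj_single (g x : G) (r : k) : cj g (single x r) = single (g * x * g⁻¹) r := by
  rw [cj_apply, single_mul_single, single_mul_single]; simp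

theorem cj_eq_iff_commute (g : G) (a : MonoidAlgebra k G) :
    cj g a = a ↔ single g 1 * a = a * single g 1 := by
  have h : (single g⁻¹ 1 : MonoidAlgebra k G) * single g 1 = 1 := by
    rw [single_mul_single]; simp [← MonoidAlgebra.one_def]
  have h' : (single g 1 : MonoidAlgebra k G) * single g⁻¹ 1 = 1 := by
    rw [single_mul_single]; simp [← MonoidAlgebra.one_def]
  rw [cj_apply]
  constructor
  · intro e
    calc single g 1 * a = single g 1 * a * (single g⁻¹ 1 * single g 1) := by rw [h, mul_one]
      _ = (single g 1 * a * single g⁻¹ 1) * single g 1 := by simp only [mul_assoc]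
      _ = a * single g 1 := by rw [e]
  · intro e
    rw [e, mul_assoc, h', mul_one]

/-! ### Fixed points, support, truncation -/

/-- `a` is fixed under conjugation by all elements of `P`. -/
def FixedBy (P : Subgroup G) (a : MonoidAlgebra k G) : Prop := ∀ u ∈ P, cj u a = a

theorem fixedBy_iff_coeff {P : Subgroup G} {a : MonoidAlgebra k G} :
    FixedBy P a ↔ ∀ u ∈ P, ∀ x, a.coeff (u * x * u⁻¹) = a.coeff x := by
  constructor
  · intro h u hu x
    have := congrArg (fun b => b.coeff x) (h u⁻¹ (P.inv_mem hu))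
    simpa using this
  · intro h u hu
    apply ma_ext; intro x
    have := h u⁻¹ (P.inv_mem hu) x
    simpa using this

theorem FixedBy.mono {P Q : Subgroup G} (h : Q ≤ P) {a : MonoidAlgebra k G} (ha : FixedBy P a) :
    FixedBy Q a := fun u hu => ha u (h hu)

theorem FixedBy.mul {P : Subgroup G} {a b : MonoidAlgebra k G} (ha : FixedBy P a)
    (hb : FixedBy P b) : FixedBy P (a * b) := fun u hu => by rw [map_mul, ha u hu, hb u hu]

theorem FixedBy.add {P : Subgroup G} {a b : MonoidAlgebra k G} (ha : FixedBy P a)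
    (hb : FixedBy P b) : FixedBy P (a + b) := fun u hu => by rw [map_add, ha u hu, hb u hu]

theorem FixedBy.sub {P : Subgroup G} {a b : MonoidAlgebra k G} (ha : FixedBy P a)
    (hb : FixedBy P b) : FixedBy P (a - b) := fun u hu => by rw [map_sub, ha u hu, hb u hu]

theorem FixedBy.neg {P : Subgroup G} {a : MonoidAlgebra k G} (ha : FixedBy P a) :
    FixedBy P (-a) := fun u hu => by rw [map_neg, ha u hu]

theorem fixedBy_one (P : Subgroup G) : FixedBy P (1 : MonoidAlgebra k G) := fun _ _ => map_one _

theorem fixedBy_zero (P : Subgroup G) : FixedBy P (0 : MonoidAlgebra k G) := fun _ _ => map_zero _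

theorem FixedBy.sum {P : Subgroup G} {ι : Type*} (s : Finset ι) (f : ι → MonoidAlgebra k G)
    (h : ∀ i ∈ s, FixedBy P (f i)) : FixedBy P (∑ i ∈ s, f i) := fun u hu => by
  rw [map_sum]; exact Finset.sum_congr rfl fun i hi => h i hi u hu

/-- `a` is supported on the subgroup `H`. -/
def SuppIn (H : Subgroup G) (a : MonoidAlgebra k G) : Prop := ∀ x, x ∉ H → a.coeff x = 0

theorem SuppIn.mono {H K : Subgroup G} (h : H ≤ K) {a : MonoidAlgebra k G} (ha : SuppIn H a) :
    SuppIn K a := fun x hx => ha x fun hx' => hx (h hx')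

theorem SuppIn.add {H : Subgroup G} {a b : MonoidAlgebra k G} (ha : SuppIn H a)
    (hb : SuppIn H b) : SuppIn H (a + b) := fun x hx => by
  rw [coeff_add, Finsupp.add_apply, ha x hx, hb x hx, add_zero]

theorem SuppIn.neg {H : Subgroup G} {a : MonoidAlgebra k G} (ha : SuppIn H a) :
    SuppIn H (-a) := fun x hx => by
  rw [coeff_neg, Finsupp.neg_apply, ha x hx, neg_zero]

theorem SuppIn.sub {H : Subgroup G} {a b : MonoidAlgebra k G} (ha : SuppIn H a)
    (hb : SuppIn H b) : SuppIn H (a - b) := by
  rw [sub_eq_add_neg]; exact ha.add hb.neg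

theorem suppIn_zero (H : Subgroup G) : SuppIn H (0 : MonoidAlgebra k G) := fun _ _ => rfl

theorem suppIn_one (H : Subgroup G) : SuppIn H (1 : MonoidAlgebra k G) := fun x hx => by
  classical
  rw [coeff_one, if_neg]
  rintro rfl
  exact hx H.one_mem

theorem SuppIn.mul [Finite G] {H : Subgroup G} {a b : MonoidAlgebra k G} (ha : SuppIn H a)
    (hb : SuppIn H b) : SuppIn H (a * b) := fun x hx => by
  have := Fintype.ofFinite G
  rw [coeff_mul_left]
  apply Finset.sum_eq_zero
  intro y _
  by_cases hy : y ∈ H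
  · rw [hb (y⁻¹ * x) (fun h => hx (by simpa using H.mul_mem hy h)), mul_zero]
  · rw [ha y hy, zero_mul]

theorem SuppIn.sum {H : Subgroup G} {ι : Type*} (s : Finset ι) (f : ι → MonoidAlgebra k G)
    (h : ∀ i ∈ s, SuppIn H (f i)) : SuppIn H (∑ i ∈ s, f i) := fun x hx => by
  rw [coeff_sum, Finsupp.finsetSum_apply]
  exact Finset.sum_eq_zero fun i hi => h i hi x hx

variable [Finite G]

open Classical in
/-- Truncation of an element of the group algebra to a subgroup. -/
noncomputable def trunc (H : Subgroup G) (a : MonoidAlgebra k G) : MonoidAlgebra k G :=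
  ofFun fun x => if x ∈ H then a.coeff x else 0

theorem coeff_trunc_of_mem {H : Subgroup G} (a : MonoidAlgebra k G) {x : G} (hx : x ∈ H) :
    (trunc H a).coeff x = a.coeff x := by
  simp [trunc, hx]

theorem coeff_trunc_of_not_mem {H : Subgroup G} (a : MonoidAlgebra k G) {x : G} (hx : x ∉ H) :
    (trunc H a).coeff x = 0 := by
  simp [trunc, hx]

open Classical in
theorem coeff_trunc (H : Subgroup G) (a : MonoidAlgebra k G) (x : G) :
    (trunc H a).coeff x = if x ∈ H then a.coeff x else 0 := by
  simp [trunc]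

theorem suppIn_trunc (H : Subgroup G) (a : MonoidAlgebra k G) : SuppIn H (trunc H a) :=
  fun _ hx => coeff_trunc_of_not_mem a hx

theorem trunc_of_suppIn {H : Subgroup G} {a : MonoidAlgebra k G} (ha : SuppIn H a) :
    trunc H a = a := by
  apply ma_ext; intro x
  by_cases hx : x ∈ H
  · exact coeff_trunc_of_mem a hx
  · rw [coeff_trunc_of_not_mem a hx, ha x hx]

theorem trunc_add (H : Subgroup G) (a b : MonoidAlgebra k G) :
    trunc H (a + b) = trunc H a + trunc H b := by
  apply ma_ext; intro x
  by_cases hx : x ∈ H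
  · simp [coeff_trunc_of_mem _ hx]
  · simp [coeff_trunc_of_not_mem _ hx]

theorem trunc_zero (H : Subgroup G) : trunc H (0 : MonoidAlgebra k G) = 0 :=
  trunc_of_suppIn (suppIn_zero H)

theorem trunc_one (H : Subgroup G) : trunc H (1 : MonoidAlgebra k G) = 1 :=
  trunc_of_suppIn (suppIn_one H)

theorem trunc_neg (H : Subgroup G) (a : MonoidAlgebra k G) : trunc H (-a) = - trunc H a := by
  apply ma_ext; intro x
  by_cases hx : x ∈ H
  · simp [coeff_trunc_of_mem _ hx]
  · simp [coeff_trunc_of_not_mem _ hx]

theorem trunc_sub (H : Subgroup G) (a b : MonoidAlgebra k G) :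
    trunc H (a - b) = trunc H a - trunc H b := by
  rw [sub_eq_add_neg, trunc_add, trunc_neg, sub_eq_add_neg]

theorem trunc_sum (H : Subgroup G) {ι : Type*} (s : Finset ι) (f : ι → MonoidAlgebra k G) :
    trunc H (∑ i ∈ s, f i) = ∑ i ∈ s, trunc H (f i) := by
  classical
  induction s using Finset.induction_on with
  | empty => simp [trunc_zero]
  | insert a s ha ih => rw [Finset.sum_insert ha, Finset.sum_insert ha, trunc_add, ih]

theorem trunc_trunc_of_le {H K : Subgroup G} (h : H ≤ K) (a : MonoidAlgebra k G) :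
    trunc H (trunc K a) = trunc H a := by
  apply ma_ext; intro x
  by_cases hx : x ∈ H
  · rw [coeff_trunc_of_mem _ hx, coeff_trunc_of_mem _ hx, coeff_trunc_of_mem _ (h hx)]
  · rw [coeff_trunc_of_not_mem _ hx, coeff_trunc_of_not_mem _ hx]

/-- Truncation to `H` is a homomorphism of left `k[H]`-modules. -/
theorem trunc_mul_of_suppIn_left {H : Subgroup G} {a : MonoidAlgebra k G} (ha : SuppIn H a)
    (b : MonoidAlgebra k G) : trunc H (a * b) = a * trunc H b := by
  have := Fintype.ofFinite G
  apply ma_ext; intro x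
  by_cases hx : x ∈ H
  · rw [coeff_trunc_of_mem _ hx, coeff_mul_left, coeff_mul_left]
    apply Finset.sum_congr rfl
    intro y _
    by_cases hy : y ∈ H
    · rw [coeff_trunc_of_mem _ (H.mul_mem (H.inv_mem hy) hx)]
    · rw [ha y hy, zero_mul, zero_mul]
  · rw [coeff_trunc_of_not_mem _ hx]
    exact (ha.mul (suppIn_trunc H b) x hx).symm

theorem trunc_mul_of_suppIn_right {H : Subgroup G} (a : MonoidAlgebra k G)
    {b : MonoidAlgebra k G} (hb : SuppIn H b) : trunc H (a * b) = trunc H a * b := by
  have := Fintype.ofFinite G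
  apply ma_ext; intro x
  by_cases hx : x ∈ H
  · rw [coeff_trunc_of_mem _ hx, coeff_mul_right, coeff_mul_right]
    apply Finset.sum_congr rfl
    intro y _
    by_cases hy : y ∈ H
    · rw [coeff_trunc_of_mem _ (H.mul_mem hx (H.inv_mem hy))]
    · rw [hb y hy, mul_zero, mul_zero]
  · rw [coeff_trunc_of_not_mem _ hx]
    exact ((suppIn_trunc H a).mul hb x hx).symm

/-- Conjugation and truncation. -/
theorem cj_trunc (g : G) (H : Subgroup G) (a : MonoidAlgebra k G) :
    cj g (trunc H a) = trunc (H.map (MulAut.conj g).toMonoidHom) (cj g a) := by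
  apply ma_ext; intro x
  have hiff : x ∈ H.map (MulAut.conj g).toMonoidHom ↔ g⁻¹ * x * g ∈ H := by
    constructor
    · rintro ⟨y, hy, rfl⟩
      simpa [mul_assoc] using hy
    · intro h
      exact ⟨_, h, by simp [mul_assoc]⟩
  rw [coeff_cj]
  by_cases hx : g⁻¹ * x * g ∈ H
  · rw [coeff_trunc_of_mem _ hx, coeff_trunc_of_mem _ (hiff.2 hx), coeff_cj]
  · rw [coeff_trunc_of_not_mem _ hx, coeff_trunc_of_not_mem _ (fun h => hx (hiff.1 h))]

theorem cj_trunc_of_mem_normalizer {g : G} {H : Subgroup G}
    (hg : g ∈ Subgroup.normalizer (H : Set G)) (a : MonoidAlgebra k G) :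
    cj g (trunc H a) = trunc H (cj g a) := by
  rw [cj_trunc]
  congr 1
  exact Subgroup.mem_normalizer_iff_map_conj_eq.1 hg

theorem SuppIn.cj {H : Subgroup G} {a : MonoidAlgebra k G} (ha : SuppIn H a) (g : G) :
    SuppIn (H.map (MulAut.conj g).toMonoidHom) (cj g a) := by
  rw [← trunc_of_suppIn ha, cj_trunc]
  exact suppIn_trunc _ _

theorem FixedBy.trunc {P H : Subgroup G} (hPH : P ≤ Subgroup.normalizer (H : Set G))
    {a : MonoidAlgebra k G} (ha : FixedBy P a) : FixedBy P (trunc H a) := fun u hu => by
  rw [cj_trunc_of_mem_normalizer (hPH hu), ha u hu]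

/-! ### The centre of `k[H]` inside `k[G]` -/

/-- The elements of `k[G]` that are supported on `H` and commute with `H`: the centre of `k[H]`. -/
def zsub (k : Type v) [CommRing k] (H : Subgroup G) : Subring (MonoidAlgebra k G) where
  carrier := {a | SuppIn H a ∧ FixedBy H a}
  mul_mem' ha hb := ⟨ha.1.mul hb.1, ha.2.mul hb.2⟩
  one_mem' := ⟨suppIn_one H, fixedBy_one H⟩
  add_mem' ha hb := ⟨ha.1.add hb.1, ha.2.add hb.2⟩
  zero_mem' := ⟨suppIn_zero H, fixedBy_zero H⟩
  neg_mem' ha := ⟨ha.1.neg, ha.2.neg⟩

theorem mem_zsub {H : Subgroup G} {a : MonoidAlgebra k G} :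
    a ∈ zsub k H ↔ SuppIn H a ∧ FixedBy H a := Iff.rfl

/-- An element fixed by `H` commutes with every element supported on `H`. -/
theorem FixedBy.commute {H : Subgroup G} {a b : MonoidAlgebra k G} (ha : FixedBy H a)
    (hb : SuppIn H b) : a * b = b * a := by
  have := Fintype.ofFinite G
  rw [eq_sum_single b, Finset.mul_sum, Finset.sum_mul]
  apply Finset.sum_congr rfl
  intro g _
  by_cases hg : g ∈ H
  · have h1 := (cj_eq_iff_commute g a).1 (ha g hg)
    have h2 : (single g (b.coeff g) : MonoidAlgebra k G) = (b.coeff g) • single g 1 := by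
      rw [smul_single]; simp
    rw [h2, mul_smul_comm, smul_mul_assoc, h1]
  · rw [hb g hg]; simp

theorem zsub_commute {H : Subgroup G} {a b : MonoidAlgebra k G} (ha : a ∈ zsub k H)
    (hb : b ∈ zsub k H) : a * b = b * a := ha.2.commute hb.1

theorem cj_mem_zsub {H : Subgroup G} {a : MonoidAlgebra k G} (ha : a ∈ zsub k H) (g : G) :
    cj g a ∈ zsub k (H.map (MulAut.conj g).toMonoidHom) := by
  refine ⟨ha.1.cj g, ?_⟩
  rintro _ ⟨h, hh, rfl⟩
  have : (MulAut.conj g).toMonoidHom h = g * h * g⁻¹ := rfl
  rw [this, ← cj_mul_apply]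
  have h2 : g * h * g⁻¹ * g = g * h := by group
  rw [h2, cj_mul_apply, ha.2 h hh]

theorem cj_mem_zsub_of_mem_normalizer {H : Subgroup G} {a : MonoidAlgebra k G}
    (ha : a ∈ zsub k H) {g : G} (hg : g ∈ Subgroup.normalizer (H : Set G)) :
    cj g a ∈ zsub k H := by
  have := cj_mem_zsub ha g
  rwa [show H.map (MulAut.conj g).toMonoidHom = H from
    Subgroup.mem_normalizer_iff_map_conj_eq.1 hg] at this

end Cfsg.Agent.Lib.Helper77
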