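import Mathlib
import Cfsg.Prelude.Def_Blocks
import Cfsg.Agent.Lib.Helper74.CharBasic
import Cfsg.Agent.Lib.Helper78.Osima

/-!
# Basic facts on blocks (helper77)
conjugation invariance of `centralChar`, `blockCoeff`, `IsDefectClass`; the principal block.
-/

set_option autoImplicit false

namespace Cfsg.Agent.Lib.Helper77

open Cfsg Cfsg.Agent.Lib.Helper74 Cfsg.Agent.Lib.Helper78
open scoped ComplexConjugate

universe u

variable {G : Type u} [Group G]

theorem centralizer_conj (x g : G) :
    Subgroup.centralizer ({x * g * x⁻¹} : Set G)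
      = (Subgroup.centralizer ({g} : Set G)).map (MulAut.conj x).toMonoidHom := by
  ext y
  simp only [Subgroup.mem_centralizer_singleton_iff, Subgroup.mem_map, MulEquiv.coe_toMonoidHom,
    MulAut.conj_apply]
  constructor
  · intro h
    refine ⟨x⁻¹ * y * x, ?_, by group⟩
    have : x⁻¹ * (y * (x * g * x⁻¹)) * x = x⁻¹ * ((x * g * x⁻¹) * y) * x := by rw [h]
    calc x⁻¹ * y * x * g = x⁻¹ * (y * (x * g * x⁻¹)) * x := by group
      _ = x⁻¹ * ((x * g * x⁻¹) * y) * x := this
      _ = g * (x⁻¹ * y * x) := by group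
  · rintro ⟨z, hz, rfl⟩
    calc x * z * x⁻¹ * (x * g * x⁻¹) = x * (z * g) * x⁻¹ := by group
      _ = x * (g * z) * x⁻¹ := by rw [hz]
      _ = x * g * x⁻¹ * (x * z * x⁻¹) := by group

theorem index_centralizer_conj (x g : G) :
    (Subgroup.centralizer ({x * g * x⁻¹} : Set G)).index
      = (Subgroup.centralizer ({g} : Set G)).index := by
  rw [centralizer_conj]
  exact Subgroup.index_map_equiv _ (MulAut.conj x)

theorem irr_conj (χ : IrrCharacter G) (x g : G) :
    (χ : G → ℂ) (x * g * x⁻¹) = (χ : G → ℂ) g :=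
  IsCharacter.isClassFunction (IrrCharacter.isCharacter χ) g x

theorem centralChar_conj (χ : IrrCharacter G) (x g : G) :
    centralChar (χ : G → ℂ) (x * g * x⁻¹) = centralChar (χ : G → ℂ) g := by
  unfold centralChar
  rw [index_centralizer_conj, irr_conj]

theorem blockCoeff_conj (B : Set (IrrCharacter G)) (x g : G) :
    blockCoeff B (x * g * x⁻¹) = blockCoeff B g := by
  unfold blockCoeff
  simp only [irr_conj]

theorem isDefectClass_conj {M : Ideal AlgInt} {B : Set (IrrCharacter G)} {g : G}
    (h : IsDefectClass M B g) (x : G) : IsDefectClass M B (x * g * x⁻¹) := by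
  obtain ⟨h1, h2, h3⟩ := h
  refine ⟨by rwa [blockCoeff_conj], by rwa [blockCoeff_conj], fun χ hχ => ?_⟩
  rw [centralChar_conj]
  exact h3 χ hχ

theorem centralChar_trivIrr (g : G) :
    centralChar ((trivIrr G : IrrCharacter G) : G → ℂ) g
      = ((Subgroup.centralizer ({g} : Set G)).index : ℂ) := by
  simp [centralChar, trivIrr]

end Cfsg.Agent.Lib.Helper77
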