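import Mathlib
import Cfsg.Agent.Lib.Helper77.GroupAlg

/-!
# The Brauer map (helper77)

* `sum_eq_sum_fixed`: a `p`-group acting on a finite set, an invariant function with values in a
  ring of characteristic `p`: the sum equals the sum over the fixed points.
* `trunc_centralizer_mul`: truncation to `C_G(P)` is multiplicative on the `P`-fixed points.
-/

set_option autoImplicit false
set_option linter.unusedSectionVars false

namespace Cfsg.Agent.Lib.Helper77

open MonoidAlgebra

universe u v

theorem sum_eq_sum_fixed {k : Type*} [CommRing k] (p : ℕ) [Fact p.Prime] [CharP k p]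
    {P X : Type*} [Group P] [Finite P] [Fintype X] [DecidableEq X] (hP : IsPGroup p P)
    (φ : P →* Equiv.Perm X) (f : X → k) (hf : ∀ u x, f (φ u x) = f x)
    (F : Finset X) (hF : ∀ x, x ∈ F ↔ ∀ u, φ u x = x) :
    ∑ x, f x = ∑ x ∈ F, f x := by
  classical
  have key : ∀ b : k, ((Finset.univ.filter fun x => f x = b).card : k)
      = ((F.filter fun x => f x = b).card : k) := by
    intro b
    let _ : MulAction P {x // f x = b} :=
      { smul := fun u x => ⟨φ u x.1, by rw [hf]; exact x.2⟩
        one_smul := fun x => by
          apply Subtype.ext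
          show φ 1 x.1 = x.1
          simp
        mul_smul := fun u v x => by
          apply Subtype.ext
          show φ (u * v) x.1 = φ u (φ v x.1)
          simp }
    have h1 := hP.card_modEq_card_fixedPoints {x // f x = b}
    have h2 : Nat.card {x // f x = b} = (Finset.univ.filter fun x => f x = b).card := by
      rw [Nat.card_eq_fintype_card, Fintype.card_subtype]
    have h3 : Nat.card (MulAction.fixedPoints P {x // f x = b})
        = (F.filter fun x => f x = b).card := by
      have e : MulAction.fixedPoints P {x // f x = b} ≃ {x // x ∈ F.filter fun x => f x = b} :=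
        { toFun := fun x => ⟨x.1.1, Finset.mem_filter.2
            ⟨(hF x.1.1).2 fun u => congrArg Subtype.val (x.2 u), x.1.2⟩⟩
          invFun := fun x => ⟨⟨x.1, (Finset.mem_filter.1 x.2).2⟩, fun u =>
            Subtype.ext ((hF x.1).1 (Finset.mem_filter.1 x.2).1 u)⟩
          left_inv := fun x => rfl
          right_inv := fun x => rfl }
      rw [Nat.card_congr e, Nat.card_eq_fintype_card, Fintype.card_coe]
    rw [h2, h3] at h1
    exact (CharP.natCast_eq_natCast k p).2 h1
  have e1 : ∀ s : Finset X, ∑ x ∈ s, f x
      = ∑ b ∈ Finset.univ.image f, ((s.filter fun x => f x = b).card : k) * b := by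
    intro s
    rw [← Finset.sum_fiberwise_of_maps_to (s := s) (t := Finset.univ.image f) (g := f)
      (fun x _ => Finset.mem_image_of_mem f (Finset.mem_univ x))]
    apply Finset.sum_congr rfl
    intro b _
    rw [Finset.sum_congr rfl (g := fun _ => b) (fun x hx => (Finset.mem_filter.1 hx).2)]
    simp
  rw [e1, e1 F]
  exact Finset.sum_congr rfl fun b _ => by rw [key b]

variable {k : Type v} [CommRing k] {G : Type u} [Group G] [Finite G]

/-- The conjugation action of a subgroup on the group, as a homomorphism to permutations. -/
def conjPerm (P : Subgroup G) : P →* Equiv.Perm G :=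
  (MulAut.toPerm G).comp (MulAut.conj.comp P.subtype)

theorem conjPerm_apply (P : Subgroup G) (u : P) (x : G) :
    conjPerm P u x = (u : G) * x * (u : G)⁻¹ := rfl

theorem mem_centralizer_iff_conj {P : Subgroup G} {x : G} :
    x ∈ Subgroup.centralizer (P : Set G) ↔ ∀ u : P, conjPerm P u x = x := by
  rw [Subgroup.mem_centralizer_iff]
  constructor
  · intro h u
    rw [conjPerm_apply, h u u.2, mul_inv_cancel_right]
  · intro h u hu
    have := h ⟨u, hu⟩
    rw [conjPerm_apply] at this
    exact mul_inv_eq_iff_eq_mul.1 this

/-- **The Brauer map is multiplicative**: truncation to `C_G(P)` is multiplicative on the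
`P`-fixed points of the group algebra in characteristic `p`, for a `p`-subgroup `P`. -/
theorem trunc_centralizer_mul (p : ℕ) [Fact p.Prime] [CharP k p] (P : Subgroup G)
    (hP : IsPGroup p P) {a b : MonoidAlgebra k G} (ha : FixedBy P a) (hb : FixedBy P b) :
    trunc (Subgroup.centralizer (P : Set G)) (a * b)
      = trunc (Subgroup.centralizer (P : Set G)) a * trunc (Subgroup.centralizer (P : Set G)) b := by
  classical
  have := Fintype.ofFinite G
  set C := Subgroup.centralizer (P : Set G) with hC
  apply ma_ext; intro x
  by_cases hx : x ∈ C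
  · rw [coeff_trunc_of_mem _ hx, coeff_mul_left, coeff_mul_left]
    have ha' := fixedBy_iff_coeff.1 ha
    have hb' := fixedBy_iff_coeff.1 hb
    rw [sum_eq_sum_fixed p hP (conjPerm P) (fun y => a.coeff y * b.coeff (y⁻¹ * x)) ?_
      (Finset.univ.filter fun y => y ∈ C) ?_]
    · rw [Finset.sum_filter]
      apply Finset.sum_congr rfl
      intro y _
      by_cases hy : y ∈ C
      · rw [if_pos hy, coeff_trunc_of_mem _ hy, coeff_trunc_of_mem _ (C.mul_mem (C.inv_mem hy) hx)]
      · rw [if_neg hy, coeff_trunc_of_not_mem _ hy, zero_mul]
    · intro u y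
      simp only [conjPerm_apply]
      rw [ha' u u.2]
      congr 1
      have hxu : (u : G) * x * (u : G)⁻¹ = x := (mem_centralizer_iff_conj.1 hx) u
      have : ((u : G) * y * (u : G)⁻¹)⁻¹ * x = (u : G) * (y⁻¹ * x) * (u : G)⁻¹ := by
        conv_lhs => rw [← hxu]
        group
      rw [this, hb' u u.2]
    · intro y
      simp only [Finset.mem_filter, Finset.mem_univ, true_and]
      exact mem_centralizer_iff_conj
  · rw [coeff_trunc_of_not_mem _ hx]
    exact (((suppIn_trunc C a).mul (suppIn_trunc C b)) x hx).symm

end Cfsg.Agent.Lib.Helper77
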