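import Mathlib
import Cfsg.Agent.Lib.Helper77.BrauerMap

/-!
# Primitive idempotents of `Z(k[H])` inside `k[G]` (helper77)
-/

set_option autoImplicit false
set_option linter.unusedSectionVars false

namespace Cfsg.Agent.Lib.Helper77

open MonoidAlgebra

universe u v

variable {k : Type v} [CommRing k] {G : Type u} [Group G] [Finite G]

/-- `e` is a primitive idempotent of the centre of `k[H]` (a block idempotent of `H`). -/
structure IsPrimIdem (H : Subgroup G) (e : MonoidAlgebra k G) : Prop where
  mem : e ∈ zsub k H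
  idem : e * e = e
  ne_zero : e ≠ 0
  prim : ∀ ε ∈ zsub k H, ε * ε = ε → ε * e = e ∨ ε * e = 0

/-- The group algebra `k[G]` has block decompositions for all subgroups. -/
def HasBlockDecomp (k : Type v) [CommRing k] (G : Type u) [Group G] [Finite G] : Prop :=
  ∀ H : Subgroup G, ∃ S : Finset (MonoidAlgebra k G), (∀ e, e ∈ S ↔ IsPrimIdem H e) ∧ ∑ e ∈ S, e = 1

theorem IsPrimIdem.eq_or_mul_eq_zero {H : Subgroup G} {e e' : MonoidAlgebra k G}
    (he : IsPrimIdem H e) (he' : IsPrimIdem H e') : e = e' ∨ e * e' = 0 := by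
  rcases he'.prim e he.mem he.idem with h1 | h1
  · rcases he.prim e' he'.mem he'.idem with h2 | h2
    · left
      rw [← h2, zsub_commute he'.mem he.mem, h1]
    · right
      rw [zsub_commute he.mem he'.mem, h2]
  · exact Or.inr h1

theorem IsPrimIdem.mul_eq_zero_of_ne {H : Subgroup G} {e e' : MonoidAlgebra k G}
    (he : IsPrimIdem H e) (he' : IsPrimIdem H e') (hne : e ≠ e') : e * e' = 0 :=
  (he.eq_or_mul_eq_zero he').resolve_left hne

/-- Selection lemma: a decomposition of `1` into pairwise orthogonal idempotents of `Z(k[H])`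
selects exactly one member for each primitive idempotent. -/
theorem IsPrimIdem.existsUnique_of_decomp {H : Subgroup G} {e : MonoidAlgebra k G}
    (he : IsPrimIdem H e) {ι : Type*} (s : Finset ι) (ε : ι → MonoidAlgebra k G)
    (hmem : ∀ i ∈ s, ε i ∈ zsub k H) (hidem : ∀ i ∈ s, ε i * ε i = ε i)
    (horth : ∀ i ∈ s, ∀ j ∈ s, i ≠ j → ε i * ε j = 0) (hsum : ∑ i ∈ s, ε i = 1) :
    ∃ i ∈ s, ε i * e = e ∧ ∀ j ∈ s, ε j * e = e → j = i := by
  have h1 : ∃ i ∈ s, ε i * e = e := by
    by_contra hcon
    push Not at hcon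
    apply he.ne_zero
    calc e = (∑ i ∈ s, ε i) * e := by rw [hsum, one_mul]
      _ = ∑ i ∈ s, ε i * e := Finset.sum_mul _ _ _
      _ = 0 := Finset.sum_eq_zero fun i hi =>
          (he.prim (ε i) (hmem i hi) (hidem i hi)).resolve_left (hcon i hi)
  obtain ⟨i, hi, hie⟩ := h1
  refine ⟨i, hi, hie, fun j hj hje => ?_⟩
  by_contra hne
  apply he.ne_zero
  calc e = ε j * e := hje.symm
    _ = ε j * (ε i * e) := by rw [hie]
    _ = 0 := by rw [← mul_assoc, horth j hj i hi hne, zero_mul]

theorem IsPrimIdem.cj {H : Subgroup G} {e : MonoidAlgebra k G} (he : IsPrimIdem H e) (g : G) :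
    IsPrimIdem (H.map (MulAut.conj g).toMonoidHom) (cj g e) where
  mem := cj_mem_zsub he.mem g
  idem := by rw [← map_mul, he.idem]
  ne_zero := fun h => he.ne_zero (by simpa using h)
  prim := by
    intro ε hε hidem
    have h1 : Helper77.cj g⁻¹ ε ∈ zsub k H := by
      have := cj_mem_zsub hε g⁻¹
      have e2 : (H.map (MulAut.conj g).toMonoidHom).map (MulAut.conj g⁻¹).toMonoidHom = H := by
        ext x
        simp only [Subgroup.mem_map, MulEquiv.coe_toMonoidHom, MulAut.conj_apply,
          exists_exists_and_eq_and]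
        constructor
        · rintro ⟨y, hy, rfl⟩
          simpa [mul_assoc] using hy
        · intro hx
          exact ⟨x, hx, by simp [mul_assoc]⟩
      rwa [e2] at this
    have h2 : Helper77.cj g⁻¹ ε * Helper77.cj g⁻¹ ε = Helper77.cj g⁻¹ ε := by
      rw [← map_mul, hidem]
    rcases he.prim _ h1 h2 with h | h
    · left
      have := congrArg (Helper77.cj g) h
      rwa [map_mul, cj_cj_inv] at this
    · right
      have := congrArg (Helper77.cj g) h
      rwa [map_mul, cj_cj_inv, map_zero] at this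

theorem IsPrimIdem.cj_of_mem_normalizer {H : Subgroup G} {e : MonoidAlgebra k G}
    (he : IsPrimIdem H e) {g : G} (hg : g ∈ Subgroup.normalizer (H : Set G)) :
    IsPrimIdem H (Helper77.cj g e) := by
  have := he.cj g
  rwa [show H.map (MulAut.conj g).toMonoidHom = H from
    Subgroup.mem_normalizer_iff_map_conj_eq.1 hg] at this

/-- An idempotent of `Z(k[H])` is the sum of the primitive idempotents below it. -/
theorem idem_eq_sum_prim {H : Subgroup G} (S : Finset (MonoidAlgebra k G))
    (hS : ∀ e, e ∈ S ↔ IsPrimIdem H e) (hsum : ∑ e ∈ S, e = 1) [DecidableEq (MonoidAlgebra k G)]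
    {ε : MonoidAlgebra k G} (hε : ε ∈ zsub k H) (hidem : ε * ε = ε) :
    ε = ∑ e ∈ S.filter (fun e => ε * e = e), e := by
  calc ε = ε * ∑ e ∈ S, e := by rw [hsum, mul_one]
    _ = ∑ e ∈ S, ε * e := Finset.mul_sum _ _ _
    _ = ∑ e ∈ S, if ε * e = e then e else 0 := by
        apply Finset.sum_congr rfl
        intro e he
        split_ifs with h
        · exact h
        · exact (((hS e).1 he).prim ε hε hidem).resolve_left h
    _ = ∑ e ∈ S.filter (fun e => ε * e = e), e := (Finset.sum_filter _ _).symm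

theorem normalizer_le_normalizer_centralizer (Q : Subgroup G) :
    Subgroup.normalizer (Q : Set G) ≤
      Subgroup.normalizer ((Subgroup.centralizer (Q : Set G) : Subgroup G) : Set G) := by
  have key : ∀ g ∈ Subgroup.normalizer (Q : Set G), ∀ c ∈ Subgroup.centralizer (Q : Set G),
      g * c * g⁻¹ ∈ Subgroup.centralizer (Q : Set G) := by
    intro g hg c hc
    rw [Subgroup.mem_centralizer_iff] at hc ⊢
    intro q hq
    have hq' : g⁻¹ * q * g ∈ Q := (Subgroup.mem_normalizer_iff''.1 hg q).1 hq
    have := hc _ hq'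
    calc q * (g * c * g⁻¹) = g * ((g⁻¹ * q * g) * c) * g⁻¹ := by group
      _ = g * (c * (g⁻¹ * q * g)) * g⁻¹ := by rw [this]
      _ = g * c * g⁻¹ * q := by group
  intro g hg
  rw [Subgroup.mem_normalizer_iff]
  intro c
  constructor
  · exact key g hg c
  · intro h
    have := key g⁻¹ (Subgroup.inv_mem _ hg) _ h
    simpa [mul_assoc] using this

theorem centralizer_map_conj (Q : Subgroup G) (g : G) :
    Subgroup.centralizer ((Q.map (MulAut.conj g).toMonoidHom : Subgroup G) : Set G)
      = (Subgroup.centralizer (Q : Set G)).map (MulAut.conj g).toMonoidHom := by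
  ext x
  simp only [Subgroup.mem_centralizer_iff, Subgroup.mem_map, MulEquiv.coe_toMonoidHom,
    MulAut.conj_apply, SetLike.mem_coe]
  constructor
  · intro h
    refine ⟨g⁻¹ * x * g, ?_, by group⟩
    intro q hq
    have := h (g * q * g⁻¹) ⟨q, hq, rfl⟩
    calc q * (g⁻¹ * x * g) = g⁻¹ * ((g * q * g⁻¹) * x) * g := by group
      _ = g⁻¹ * (x * (g * q * g⁻¹)) * g := by rw [this]
      _ = g⁻¹ * x * g * q := by group
  · rintro ⟨c, hc, rfl⟩ _ ⟨q, hq, rfl⟩
    have := hc q hq
    calc g * q * g⁻¹ * (g * c * g⁻¹) = g * (q * c) * g⁻¹ := by group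
      _ = g * (c * q) * g⁻¹ := by rw [this]
      _ = g * c * g⁻¹ * (g * q * g⁻¹) := by group

end Cfsg.Agent.Lib.Helper77
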