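import Mathlib
import Cfsg.Prelude.Def_Blocks
import Cfsg.Agent.Lib.Helper78.Osima
import Cfsg.Agent.Lib.Helper77.ResField
import Cfsg.Agent.Lib.Helper77.PrimIdem

/-!
# Dictionary between blocks (sets of characters) and idempotents of `Z(F[G])`, part 1 (helper77)

`R = Rloc M`, `F = ResF M`.  Elements of `R[G]`, their complex coefficient functions `cfun`,
the reduction `piF : R[G] → F[G]`, nilpotency of central elements killed by all central characters
modulo `M`, and the block idempotents `ebar B`.
-/

set_option autoImplicit false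
set_option linter.unusedSectionVars false

namespace Cfsg.Agent.Lib.Helper77

open Cfsg MonoidAlgebra Cfsg.Agent.Lib.Helper78

universe u

variable {G : Type u} [Group G] [Fintype G] (M : Ideal AlgInt) [hP : M.IsPrime]

/-- The complex coefficient function of an element of `R[G]`. -/
def cfun (a : MonoidAlgebra (Rloc M) G) : G → ℂ := fun g => (a.coeff g : ℂ)

theorem cfun_apply (a : MonoidAlgebra (Rloc M) G) (g : G) : cfun M a g = (a.coeff g : ℂ) := rfl

theorem cfun_memLocalRing (a : MonoidAlgebra (Rloc M) G) (g : G) : MemLocalRing M (cfun M a g) :=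
  (a.coeff g).2

theorem cfun_injective : Function.Injective (cfun M : MonoidAlgebra (Rloc M) G → G → ℂ) := by
  intro a b h
  apply ma_ext
  intro g
  exact Subtype.ext (congrFun h g)

theorem cfun_mul (a b : MonoidAlgebra (Rloc M) G) :
    cfun M (a * b) = conv (cfun M a) (cfun M b) := by
  ext g
  simp only [cfun, conv, coeff_mul_left]
  push_cast
  rfl

theorem cfun_add (a b : MonoidAlgebra (Rloc M) G) : cfun M (a + b) = cfun M a + cfun M b := by
  ext g
  simp [cfun]

theorem cfun_sub (a b : MonoidAlgebra (Rloc M) G) : cfun M (a - b) = cfun M a - cfun M b := by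
  ext g
  simp [cfun]

theorem cfun_zero : cfun M (0 : MonoidAlgebra (Rloc M) G) = 0 := by
  ext g
  simp [cfun]

open Classical in
theorem cfun_single_one (r : Rloc M) :
    cfun M (single (1 : G) r) = Pi.single 1 (r : ℂ) := by
  ext g
  simp only [cfun, coeff_single, Finsupp.single_apply, Pi.single_apply]
  by_cases h : g = 1
  · subst h; simp
  · rw [if_neg (fun h' => h h'.symm), if_neg h]; rfl

open Classical in
theorem cfun_one : cfun M (1 : MonoidAlgebra (Rloc M) G) = Pi.single 1 1 := by
  rw [MonoidAlgebra.one_def, cfun_single_one]; rfl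

theorem cfun_isClassFunction {a : MonoidAlgebra (Rloc M) G} (ha : FixedBy ⊤ a) :
    IsClassFunction G (cfun M a) := by
  intro g h
  have := fixedBy_iff_coeff.1 ha h (Subgroup.mem_top h) g
  simp only [cfun, this]

/-- The element of `R[G]` attached to a complex function (junk outside the local ring). -/
noncomputable def liftR (z : G → ℂ) : MonoidAlgebra (Rloc M) G := ofFun fun g => toR M (z g)

theorem cfun_liftR {z : G → ℂ} (hz : ∀ g, MemLocalRing M (z g)) : cfun M (liftR M z) = z := by
  ext g
  simp only [cfun, liftR, coeff_ofFun, coe_toR M (hz g)]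

theorem fixedBy_liftR {z : G → ℂ} (hz : IsClassFunction G z) : FixedBy ⊤ (liftR M z) := by
  rw [fixedBy_iff_coeff]
  intro u _ x
  simp only [liftR, coeff_ofFun, hz x u]

theorem liftR_cfun (a : MonoidAlgebra (Rloc M) G) : liftR M (cfun M a) = a :=
  cfun_injective M (cfun_liftR M (cfun_memLocalRing M a))

/-- Reduction `R[G] → F[G]`. -/
noncomputable abbrev piF : MonoidAlgebra (Rloc M) G →+* MonoidAlgebra (ResF M) G :=
  mapRingHom G (resMap M)

theorem coeff_piF (a : MonoidAlgebra (Rloc M) G) (g : G) :
    (piF M a).coeff g = red M (cfun M a g) := by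
  rw [coeff_mapRingHom, cfun_apply, red_coe]

theorem piF_liftR (z : G → ℂ) : piF M (liftR M z) = ofFun fun g => red M (z g) := by
  apply ma_ext
  intro g
  rw [coeff_mapRingHom]
  rfl

theorem piF_eq_zero_iff (a : MonoidAlgebra (Rloc M) G) :
    piF M a = 0 ↔ ∀ g, MemLocalIdeal M (cfun M a g) := by
  constructor
  · intro h g
    have := congrArg (fun b => b.coeff g) h
    simp only [coeff_piF] at this
    exact (red_eq_zero_iff (cfun_memLocalRing M a g)).1 this
  · intro h
    apply ma_ext
    intro g
    rw [coeff_piF, (red_eq_zero_iff (cfun_memLocalRing M a g)).2 (h g)]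
    rfl

theorem FixedBy.piF {P : Subgroup G} {a : MonoidAlgebra (Rloc M) G} (ha : FixedBy P a) :
    FixedBy P (piF M a) := by
  rw [fixedBy_iff_coeff] at ha ⊢
  intro u hu x
  rw [coeff_mapRingHom, coeff_mapRingHom, ha u hu x]

theorem piF_surjective_central {ε : MonoidAlgebra (ResF M) G} (hε : FixedBy ⊤ ε) :
    ∃ a : MonoidAlgebra (Rloc M) G, FixedBy ⊤ a ∧ piF M a = ε := by
  refine ⟨ofFun fun g => Function.surjInv (resMap_surjective M) (ε.coeff g), ?_, ?_⟩
  · rw [fixedBy_iff_coeff] at hε ⊢
    intro u hu x
    simp only [coeff_ofFun, hε u hu x]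
  · apply ma_ext
    intro g
    rw [coeff_mapRingHom, coeff_ofFun]
    exact Function.surjInv_eq (resMap_surjective M) _

/-- Two central elements of `R[G]` with the same central character values are equal. -/
theorem eq_of_omega {a b : MonoidAlgebra (Rloc M) G} (ha : FixedBy ⊤ a) (hb : FixedBy ⊤ b)
    (h : ∀ χ : IrrCharacter G, omega (χ : G → ℂ) (cfun M a) = omega (χ : G → ℂ) (cfun M b)) :
    a = b :=
  cfun_injective M (eq_of_omega_eq (cfun_isClassFunction M ha) (cfun_isClassFunction M hb) h)

theorem omega_cfun_mul (χ : IrrCharacter G) (a : MonoidAlgebra (Rloc M) G)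
    {b : MonoidAlgebra (Rloc M) G} (hb : FixedBy ⊤ b) :
    omega (χ : G → ℂ) (cfun M (a * b))
      = omega (χ : G → ℂ) (cfun M a) * omega (χ : G → ℂ) (cfun M b) := by
  rw [cfun_mul, omega_conv χ.2 _ (cfun_isClassFunction M hb)]

theorem omega_cfun_single_one (χ : IrrCharacter G) (r : Rloc M) :
    omega (χ : G → ℂ) (cfun M (single (1 : G) r)) = (r : ℂ) := by
  classical
  rw [cfun_single_one, omega_single_one]

theorem omega_cfun_one (χ : IrrCharacter G) :
    omega (χ : G → ℂ) (cfun M (1 : MonoidAlgebra (Rloc M) G)) = 1 := by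
  rw [MonoidAlgebra.one_def, omega_cfun_single_one]; rfl

theorem fixedBy_single_one (P : Subgroup G) {k : Type*} [CommRing k] (r : k) :
    FixedBy P (single (1 : G) r) := by
  intro u _
  rw [cj_single]; simp

theorem memLocalRing_omega_cfun (χ : IrrCharacter G) {a : MonoidAlgebra (Rloc M) G}
    (ha : FixedBy ⊤ a) : MemLocalRing M (omega (χ : G → ℂ) (cfun M a)) :=
  memLocalRing_omega hP χ (cfun_isClassFunction M ha) (cfun_memLocalRing M a)

/-- **Nilpotency**: a central element of `R[G]` all of whose central character values lie in the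
local ideal is nilpotent modulo the local ideal. -/
theorem piF_nilpotent {a : MonoidAlgebra (Rloc M) G} (ha : FixedBy ⊤ a)
    (h : ∀ χ : IrrCharacter G, MemLocalIdeal M (omega (χ : G → ℂ) (cfun M a))) :
    ∃ n : ℕ, (piF M a) ^ n = 0 := by
  classical
  let r : IrrCharacter G → Rloc M := fun χ => toR M (omega (χ : G → ℂ) (cfun M a))
  have hr : ∀ χ, ((r χ : Rloc M) : ℂ) = omega (χ : G → ℂ) (cfun M a) := fun χ =>
    coe_toR M (memLocalRing_omega_cfun M χ ha)
  let f : IrrCharacter G → MonoidAlgebra (Rloc M) G := fun χ => a - single 1 (r χ)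
  have hf : ∀ χ, FixedBy ⊤ (f χ) := fun χ => ha.sub (fixedBy_single_one _ _)
  have hfix : ∀ l : List (IrrCharacter G), FixedBy ⊤ (l.map f).prod := by
    intro l
    induction l with
    | nil => simpa using fixedBy_one _
    | cons χ l ih => rw [List.map_cons, List.prod_cons]; exact (hf χ).mul ih
  have hom : ∀ (ψ : IrrCharacter G) (l : List (IrrCharacter G)),
      omega (ψ : G → ℂ) (cfun M (l.map f).prod)
        = (l.map fun χ : IrrCharacter G =>
            omega (ψ : G → ℂ) (cfun M a) - omega (χ : G → ℂ) (cfun M a)).prod := by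
    intro ψ l
    induction l with
    | nil => simpa using omega_cfun_one M ψ
    | cons χ l ih =>
      rw [List.map_cons, List.prod_cons, List.map_cons, List.prod_cons,
        omega_cfun_mul M ψ _ (hfix l), ih, cfun_sub, omega_sub, omega_cfun_single_one, hr]
  have hzero : ((Finset.univ : Finset (IrrCharacter G)).toList.map f).prod = 0 := by
    apply eq_of_omega M (hfix _) (fixedBy_zero _)
    intro ψ
    rw [hom, cfun_zero, omega_zero]
    apply List.prod_eq_zero
    rw [List.mem_map]
    exact ⟨ψ, by simp, sub_self _⟩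
  have hpi : ∀ χ, piF M (f χ) = piF M a := by
    intro χ
    have : piF M (single (1 : G) (r χ)) = 0 := by
      rw [piF_eq_zero_iff]
      intro g
      rw [cfun_single_one, Pi.single_apply]
      split_ifs
      · rw [hr]; exact h χ
      · exact memLocalIdeal_zero hP
    rw [map_sub, this, sub_zero]
  refine ⟨(Finset.univ : Finset (IrrCharacter G)).toList.length, ?_⟩
  have h2 := congrArg (piF M) hzero
  rw [map_zero, map_list_prod, List.map_map] at h2
  have h3 : (Finset.univ : Finset (IrrCharacter G)).toList.map (⇑(piF M) ∘ f)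
      = List.replicate (Finset.univ : Finset (IrrCharacter G)).toList.length (piF M a) := by
    rw [List.eq_replicate_iff]
    refine ⟨by simp, ?_⟩
    intro b hb
    rw [List.mem_map] at hb
    obtain ⟨χ, -, rfl⟩ := hb
    exact hpi χ
  rw [h3, List.prod_replicate] at h2
  exact h2

end Cfsg.Agent.Lib.Helper77
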