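import Mathlib
import Cfsg.Agent.Lib.Helper77.Dict1

/-!
# Dictionary between blocks and idempotents of `Z(F[G])`, part 2 (helper77)

Block idempotents `ebar B` of `F[G]`; they are exactly the primitive idempotents of `Z(F[G])`.
-/

set_option autoImplicit false
set_option linter.unusedSectionVars false

namespace Cfsg.Agent.Lib.Helper77

open Cfsg MonoidAlgebra Cfsg.Agent.Lib.Helper78

universe u

variable {G : Type u} [Group G] [Fintype G] (M : Ideal AlgInt) [hP : M.IsPrime]

theorem suppIn_top {k : Type*} [CommRing k] (a : MonoidAlgebra k G) : SuppIn ⊤ a :=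
  fun x hx => absurd (Subgroup.mem_top x) hx

theorem FixedBy.commute_top {k : Type*} [CommRing k] {a : MonoidAlgebra k G} (ha : FixedBy ⊤ a)
    (b : MonoidAlgebra k G) : a * b = b * a := FixedBy.commute ha (suppIn_top b)

theorem mem_zsub_top {k : Type*} [CommRing k] {a : MonoidAlgebra k G} :
    a ∈ zsub k (⊤ : Subgroup G) ↔ FixedBy ⊤ a :=
  ⟨fun h => h.2, fun h => ⟨suppIn_top a, h⟩⟩

/-- The block idempotent in `R[G]`. -/
noncomputable def eR (B : Set (IrrCharacter G)) : MonoidAlgebra (Rloc M) G :=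
  liftR M (blockCoeff B)

/-- The block idempotent in `F[G]`. -/
noncomputable def ebar {G : Type u} [Group G] [Finite G] (M : Ideal AlgInt) [hP : M.IsPrime]
    (B : Set (IrrCharacter G)) : MonoidAlgebra (ResF M) G :=
  ofFun fun g => red M (blockCoeff B g)

theorem piF_eR (B : Set (IrrCharacter G)) : piF M (eR M B) = ebar M B := piF_liftR M _

theorem fixedBy_eR (B : Set (IrrCharacter G)) : FixedBy ⊤ (eR M B) :=
  fixedBy_liftR M (blockCoeff_isClassFunction B)

theorem fixedBy_ebar (B : Set (IrrCharacter G)) : FixedBy ⊤ (ebar M B) := by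
  rw [← piF_eR]; exact (fixedBy_eR M B).piF M

theorem cfun_eR {B : Set (IrrCharacter G)} (hB : IsPBlock M B) : cfun M (eR M B) = blockCoeff B :=
  cfun_liftR M (memLocalRing_blockCoeff hP hB)

open Classical in
theorem omega_eR {B : Set (IrrCharacter G)} (hB : IsPBlock M B) (ψ : IrrCharacter G) :
    omega (ψ : G → ℂ) (cfun M (eR M B)) = if ψ ∈ B then 1 else 0 := by
  rw [cfun_eR M hB, omega_blockCoeff]

theorem eR_idem {B : Set (IrrCharacter G)} (hB : IsPBlock M B) : eR M B * eR M B = eR M B := by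
  classical
  apply eq_of_omega M ((fixedBy_eR M B).mul (fixedBy_eR M B)) (fixedBy_eR M B)
  intro χ
  rw [omega_cfun_mul M χ _ (fixedBy_eR M B), omega_eR M hB]
  split_ifs <;> simp

theorem eR_orth {B B' : Set (IrrCharacter G)} (hB : IsPBlock M B) (hB' : IsPBlock M B')
    (hne : B ≠ B') : eR M B * eR M B' = 0 := by
  classical
  apply eq_of_omega M ((fixedBy_eR M B).mul (fixedBy_eR M B')) (fixedBy_zero _)
  intro χ
  rw [omega_cfun_mul M χ _ (fixedBy_eR M B'), omega_eR M hB, omega_eR M hB', cfun_zero, omega_zero]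
  by_cases h : χ ∈ B
  · by_cases h' : χ ∈ B'
    · exact absurd (IsPBlock.eq_of_mem_mem hP hB hB' h h') hne
    · simp [h']
  · simp [h]

theorem ebar_idem {B : Set (IrrCharacter G)} (hB : IsPBlock M B) :
    ebar M B * ebar M B = ebar M B := by
  rw [← piF_eR, ← map_mul, eR_idem M hB]

theorem ebar_orth {B B' : Set (IrrCharacter G)} (hB : IsPBlock M B) (hB' : IsPBlock M B')
    (hne : B ≠ B') : ebar M B * ebar M B' = 0 := by
  rw [← piF_eR, ← piF_eR, ← map_mul, eR_orth M hB hB' hne, map_zero]

theorem ebar_ne_zero {B : Set (IrrCharacter G)} (hB : IsPBlock M B) : ebar M B ≠ 0 := by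
  classical
  intro h
  rw [← piF_eR, piF_eq_zero_iff] at h
  obtain ⟨χ, hχ⟩ := IsPBlock.nonempty hP hB
  have := memLocalIdeal_omega hP χ (cfun_isClassFunction M (fixedBy_eR M B)) h
  rw [omega_eR M hB, if_pos hχ] at this
  exact not_memLocalIdeal_one hP this

theorem ebar_injective {B B' : Set (IrrCharacter G)} (hB : IsPBlock M B) (hB' : IsPBlock M B')
    (h : ebar M B = ebar M B') : B = B' := by
  by_contra hne
  apply ebar_ne_zero M hB
  rw [← ebar_idem M hB]
  nth_rewrite 2 [h]
  exact ebar_orth M hB hB' hne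

theorem eq_zero_of_idem_of_nilpotent {A : Type*} [Monoid A] [Zero A] {x : A} (h : x * x = x)
    {n : ℕ} (hn : x ^ n = 0) (h1 : (1 : A) = 0 → x = 0) : x = 0 := by
  induction n with
  | zero => exact h1 (by simpa using hn)
  | succ n ih =>
    rcases Nat.eq_zero_or_pos n with rfl | hpos
    · simpa using hn
    · apply ih
      obtain ⟨m, rfl⟩ : ∃ m, n = m + 1 := ⟨n - 1, by omega⟩
      rw [pow_succ, pow_succ, mul_assoc, h, ← pow_succ] at hn
      exact hn

/-- If the central character of one member of `B` kills (mod `M`) a central `z` whose reduction is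
idempotent, then the reduction of `z` kills `ebar B`. -/
theorem mul_ebar_eq_zero {B : Set (IrrCharacter G)} (hB : IsPBlock M B)
    {z : MonoidAlgebra (Rloc M) G} (hz : FixedBy ⊤ z) (hidem : piF M z * piF M z = piF M z)
    {χ : IrrCharacter G} (hχ : χ ∈ B) (h : MemLocalIdeal M (omega (χ : G → ℂ) (cfun M z))) :
    piF M z * ebar M B = 0 := by
  classical
  have hcomm : piF M z * ebar M B = ebar M B * piF M z :=
    (FixedBy.commute_top (fixedBy_ebar M B) _).symm
  obtain ⟨n, hn⟩ := piF_nilpotent M (hz.mul (fixedBy_eR M B)) (by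
    intro ψ
    rw [omega_cfun_mul M ψ _ (fixedBy_eR M B), omega_eR M hB]
    by_cases hψ : ψ ∈ B
    · rw [if_pos hψ, mul_one]
      have := memLocalIdeal_omega_sub hP (IsPBlock.sameBlock hP hB hψ hχ)
        (cfun_isClassFunction M hz) (cfun_memLocalRing M z)
      have h2 := MemLocalIdeal.add hP this h
      rwa [sub_add_cancel] at h2
    · rw [if_neg hψ, mul_zero]
      exact memLocalIdeal_zero hP)
  rw [map_mul, piF_eR] at hn
  refine eq_zero_of_idem_of_nilpotent ?_ hn (fun h1 => ?_)
  · calc piF M z * ebar M B * (piF M z * ebar M B)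
        = piF M z * (ebar M B * piF M z) * ebar M B := by simp only [mul_assoc]
      _ = piF M z * (piF M z * ebar M B) * ebar M B := by rw [hcomm]
      _ = (piF M z * piF M z) * (ebar M B * ebar M B) := by simp only [mul_assoc]
      _ = piF M z * ebar M B := by rw [hidem, ebar_idem M hB]
  · rw [← one_mul (piF M z * ebar M B), h1, zero_mul]

/-- Criterion for `z̄ * ebar B = ebar B`. -/
theorem mul_ebar_eq_iff {B : Set (IrrCharacter G)} (hB : IsPBlock M B)
    {z : MonoidAlgebra (Rloc M) G} (hz : FixedBy ⊤ z) (hidem : piF M z * piF M z = piF M z) :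
    piF M z * ebar M B = ebar M B ↔
      ∀ χ ∈ B, MemLocalIdeal M (omega (χ : G → ℂ) (cfun M z) - 1) := by
  classical
  constructor
  · intro h χ hχ
    have h1 : piF M (z * eR M B - eR M B) = 0 := by
      rw [map_sub, map_mul, piF_eR, h, sub_self]
    rw [piF_eq_zero_iff] at h1
    have h2 := memLocalIdeal_omega hP χ
      (cfun_isClassFunction M ((hz.mul (fixedBy_eR M B)).sub (fixedBy_eR M B))) h1
    rwa [cfun_sub, omega_sub, omega_cfun_mul M χ _ (fixedBy_eR M B), omega_eR M hB, if_pos hχ,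
      mul_one] at h2
  · intro h
    obtain ⟨χ, hχ⟩ := IsPBlock.nonempty hP hB
    have h1 : piF M (1 - z) * ebar M B = 0 := by
      apply mul_ebar_eq_zero M hB ((fixedBy_one _).sub hz) _ hχ
      · rw [cfun_sub, omega_sub, omega_cfun_one]
        have := MemLocalIdeal.neg (h χ hχ)
        rwa [neg_sub] at this
      · rw [map_sub, map_one]
        have : (1 - piF M z) * (1 - piF M z) = 1 - piF M z - piF M z + piF M z * piF M z := by
          noncomm_ring
        rw [this, hidem]; abel
    rw [map_sub, map_one, sub_mul, one_mul, sub_eq_zero] at h1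
    exact h1.symm

/-- Dichotomy. -/
theorem mul_ebar_eq_or {B : Set (IrrCharacter G)} (hB : IsPBlock M B)
    {ε : MonoidAlgebra (ResF M) G} (hε : FixedBy ⊤ ε) (hidem : ε * ε = ε) :
    ε * ebar M B = ebar M B ∨ ε * ebar M B = 0 := by
  classical
  obtain ⟨z, hz, rfl⟩ := piF_surjective_central M hε
  obtain ⟨χ, hχ⟩ := IsPBlock.nonempty hP hB
  have h1 : piF M (z * z - z) = 0 := by rw [map_sub, map_mul, hidem, sub_self]
  rw [piF_eq_zero_iff] at h1
  have h2 := memLocalIdeal_omega hP χ (cfun_isClassFunction M ((hz.mul hz).sub hz)) h1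
  rw [cfun_sub, omega_sub, omega_cfun_mul M χ _ hz] at h2
  have hw := memLocalRing_omega_cfun M χ hz
  have h3 : MemLocalIdeal M (omega (χ : G → ℂ) (cfun M z) * (omega (χ : G → ℂ) (cfun M z) - 1)) := by
    rwa [mul_sub, mul_one]
  rcases (memLocalIdeal_mul_iff hP hw (MemLocalRing.sub hP hw (memLocalRing_one hP))).1 h3
    with h4 | h4
  · exact Or.inr (mul_ebar_eq_zero M hB hz hidem hχ h4)
  · left
    rw [mul_ebar_eq_iff M hB hz hidem]
    intro ψ hψ
    have := memLocalIdeal_omega_sub hP (IsPBlock.sameBlock hP hB hψ hχ)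
        (cfun_isClassFunction M hz) (cfun_memLocalRing M z)
    have h5 := MemLocalIdeal.add hP this h4
    rwa [sub_add_sub_cancel] at h5

theorem isPrimIdem_ebar {B : Set (IrrCharacter G)} (hB : IsPBlock M B) :
    IsPrimIdem (⊤ : Subgroup G) (ebar M B) where
  mem := mem_zsub_top.2 (fixedBy_ebar M B)
  idem := ebar_idem M hB
  ne_zero := ebar_ne_zero M hB
  prim := fun _ hε hidem => mul_ebar_eq_or M hB (mem_zsub_top.1 hε) hidem

open Classical in
/-- The finite set of blocks. -/
noncomputable def blocksFinset (G : Type u) [Group G] [Finite G] (M : Ideal AlgInt) :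
    Finset (Set (IrrCharacter G)) :=
  Finset.univ.image fun χ : IrrCharacter G => blockOf M (χ : G → ℂ)

theorem mem_blocksFinset {B : Set (IrrCharacter G)} : B ∈ blocksFinset G M ↔ IsPBlock M B := by
  classical
  simp only [blocksFinset, Finset.mem_image, Finset.mem_univ, true_and, IsPBlock]
  constructor
  · rintro ⟨χ, rfl⟩; exact ⟨χ, rfl⟩
  · rintro ⟨χ, rfl⟩; exact ⟨χ, rfl⟩

theorem sum_eR : ∑ B ∈ blocksFinset G M, eR M B = 1 := by
  classical
  apply eq_of_omega M (FixedBy.sum _ _ fun B _ => fixedBy_eR M B) (fixedBy_one _)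
  intro χ
  have hsum : cfun M (∑ B ∈ blocksFinset G M, eR M B) = ∑ B ∈ blocksFinset G M, cfun M (eR M B) := by
    ext g
    simp only [cfun, Finset.sum_apply]
    rw [coeff_sum, Finsupp.finsetSum_apply]
    push_cast
    rfl
  rw [hsum, omega_sum, omega_cfun_one]
  rw [Finset.sum_eq_single (blockOf M (χ : G → ℂ))]
  · rw [omega_eR M (isPBlock_blockOf χ), if_pos (mem_blockOf_self hP χ)]
  · intro B hB hne
    rw [mem_blocksFinset] at hB
    rw [omega_eR M hB, if_neg]
    intro h
    exact hne (IsPBlock.eq_blockOf hP hB h)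
  · intro h
    exact absurd ((mem_blocksFinset M).2 (isPBlock_blockOf χ)) h

theorem sum_ebar : ∑ B ∈ blocksFinset G M, ebar M B = 1 := by
  have := congrArg (piF M) (sum_eR (G := G) M)
  rw [map_sum, map_one] at this
  simpa only [piF_eR] using this

theorem exists_block_of_isPrimIdem {ε : MonoidAlgebra (ResF M) G}
    (hε : IsPrimIdem (⊤ : Subgroup G) ε) : ∃ B, IsPBlock M B ∧ ε = ebar M B := by
  by_contra hcon
  push Not at hcon
  apply hε.ne_zero
  calc ε = ε * ∑ B ∈ blocksFinset G M, ebar M B := by rw [sum_ebar, mul_one]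
    _ = ∑ B ∈ blocksFinset G M, ε * ebar M B := Finset.mul_sum _ _ _
    _ = 0 := Finset.sum_eq_zero fun B hB =>
        hε.mul_eq_zero_of_ne (isPrimIdem_ebar M ((mem_blocksFinset M).1 hB))
          (hcon B ((mem_blocksFinset M).1 hB))

theorem isPrimIdem_top_iff {ε : MonoidAlgebra (ResF M) G} :
    IsPrimIdem (⊤ : Subgroup G) ε ↔ ∃ B, IsPBlock M B ∧ ε = ebar M B :=
  ⟨exists_block_of_isPrimIdem M, by rintro ⟨B, hB, rfl⟩; exact isPrimIdem_ebar M hB⟩

end Cfsg.Agent.Lib.Helper77
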