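import Cfsg.Agent.Lib.Helper15.Gallagher
import Cfsg.Agent.Lib.Helper15.LinearHom
import Cfsg.Agent.Lib.Helper76.GaloisChar
import Cfsg.Agent.Lib.Helper76.CharIrr
import Cfsg.Agent.Lib.Helper79.CliffordCount
import Cfsg.Agent.Lib.Helper80.Linear

/-!
# Irreducible products of Galois conjugate characters

If `χ` is a faithful irreducible character and `g ↦ χ g * χ (g ^ k)` is irreducible
(`k` prime to the group order) then every nilpotent normal subgroup is central.
-/

set_option autoImplicit false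

namespace Cfsg.Agent.Lib.Helper77.GalProd

open Cfsg Cfsg.Agent.Lib Cfsg.Agent.Lib.Helper15
open scoped ComplexConjugate

section basics

variable {G : Type*} [Group G] [Fintype G]

theorem sum_pow_coprime {k : ℕ} (hk : k.Coprime (Nat.card G)) (f : G → ℂ) :
    ∑ g : G, f (g ^ k) = ∑ g : G, f g :=
  Equiv.sum_comp (powCoprime hk.symm) f

theorem classInner_pow_pow {k : ℕ} (hk : k.Coprime (Nat.card G)) (α β : G → ℂ) :
    classInner (fun g => α (g ^ k)) (fun g => β (g ^ k)) = classInner α β := by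
  unfold classInner
  rw [sum_pow_coprime hk (fun g => α g * conj (β g))]

theorem coprime_card_subgroup {k : ℕ} (hk : k.Coprime (Nat.card G)) (T : Subgroup G) :
    k.Coprime (Nat.card T) :=
  Nat.Coprime.coprime_dvd_right (Subgroup.card_subgroup_dvd_card T) hk

/-- the character `χ χ̄` -/
noncomputable def absSq (χ : G → ℂ) : G → ℂ := fun g => χ g * conj (χ g)

theorem char_absSq {χ : G → ℂ} (hχ : IsCharacter G χ) : IsCharacter G (absSq χ) :=
  Helper74.IsCharacter.mul hχ (Helper74.IsCharacter.star hχ)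

theorem classInner_absSq_one {χ : G → ℂ} (hχ : IsIrrCharacter G χ) :
    classInner (absSq χ) (fun _ => (1 : ℂ)) = 1 := by
  have h := irr_inner_self hχ
  unfold classInner at h ⊢
  simpa [absSq] using h

/-- `[χ χ̄, ψ] = [χ, χ ψ]` -/
theorem classInner_absSq (χ ψ : G → ℂ) :
    classInner (absSq χ) ψ = classInner χ (fun g => χ g * ψ g) := by
  unfold classInner absSq
  congr 1
  apply Finset.sum_congr rfl
  intro g _
  rw [map_mul]; ring

end basics

section key

variable {G : Type*} [Group G] [Fintype G]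

/-- **Key lemma.** If `χ χ^σ` is irreducible, then no nonprincipal irreducible `ψ` has both `ψ` and
`ψ^σ` as constituents of `χ χ̄`. -/
theorem key_lemma {χ : G → ℂ} (hχ : IsIrrCharacter G χ) {k : ℕ} (hk : k.Coprime (Nat.card G))
    (hirr : IsIrrCharacter G (fun g => χ g * χ (g ^ k)))
    {ψ : G → ℂ} (hψ : IsIrrCharacter G ψ) (hψ1 : ψ ≠ fun _ => (1 : ℂ))
    (h1 : classInner (absSq χ) ψ ≠ 0) (h2 : classInner (absSq χ) (fun g => ψ (g ^ k)) ≠ 0) :
    False := by
  classical
  have := Fintype.ofFinite (IrrCharacter G)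
  set Θ : G → ℂ := absSq χ with hΘ
  set Θs : G → ℂ := fun g => Θ (g ^ k) with hΘs
  have hΘc : IsCharacter G Θ := char_absSq (irr_char hχ)
  have hΘsc : IsCharacter G Θs := Helper76.isCharacter_pow_coprime hΘc hk
  have hone : IsIrrCharacter G (fun _ => (1 : ℂ)) := irr_one
  have hψs : IsIrrCharacter G (fun g => ψ (g ^ k)) := Helper76.isIrrCharacter_pow_coprime hψ hk
  -- the norm
  have hnorm : classInner Θ Θs = 1 := by
    have h := irr_inner_self hirr
    unfold classInner at h ⊢
    rw [← h]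
    congr 1
    apply Finset.sum_congr rfl
    intro g _
    simp only [hΘs, hΘ, absSq, map_mul, Complex.conj_conj]
    ring
  -- expansion
  have hexp : classInner Θ Θs
      = ∑ φ : IrrCharacter G, classInner Θ φ * classInner (φ : G → ℂ) Θs := by
    conv_lhs => rw [cf_expansion (char_cf hΘc)]
    rw [classInner_sum_left]
    apply Finset.sum_congr rfl
    intro φ _
    rw [classInner_smul_left]
  choose a ha using fun φ : IrrCharacter G => inner_nat hΘc (irr_char φ.2)
  choose b hb using fun φ : IrrCharacter G => inner_nat (irr_char φ.2) hΘsc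
  have hsum : ∑ φ : IrrCharacter G, a φ * b φ = 1 := by
    have : ((∑ φ : IrrCharacter G, a φ * b φ : ℕ) : ℂ) = 1 := by
      rw [← hnorm, hexp]
      push_cast
      apply Finset.sum_congr rfl
      intro φ _
      rw [ha, hb]
    exact_mod_cast this
  set φ1 : IrrCharacter G := ⟨_, hone⟩ with hφ1
  set φ2 : IrrCharacter G := ⟨_, hψs⟩ with hφ2
  have hne : φ1 ≠ φ2 := by
    intro h
    have h' : (fun _ : G => (1 : ℂ)) = fun g => ψ (g ^ k) := congrArg Subtype.val h
    apply hψ1
    funext g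
    have := congrFun h' ((powCoprime hk.symm).symm g)
    have e : ((powCoprime hk.symm).symm g) ^ k = g := (powCoprime hk.symm).apply_symm_apply g
    rw [e] at this
    exact this.symm
  have ha1 : a φ1 ≠ 0 := by
    intro h
    have := ha φ1
    rw [h, hφ1] at this
    change classInner (absSq χ) (fun _ => (1 : ℂ)) = _ at this
    rw [classInner_absSq_one hχ] at this
    simp at this
  have hb1 : b φ1 ≠ 0 := by
    intro h
    have := hb φ1
    rw [h, hφ1] at this
    change classInner (fun _ => (1 : ℂ)) (fun g => absSq χ (g ^ k)) = _ at this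
    have e : classInner (fun _ : G => (1 : ℂ)) (fun g => absSq χ (g ^ k))
        = classInner (fun _ : G => (1 : ℂ)) (absSq χ) :=
      classInner_pow_pow hk (fun _ => (1 : ℂ)) (absSq χ)
    rw [e, ← classInner_conj_symm, classInner_absSq_one hχ] at this
    simp at this
  have ha2 : a φ2 ≠ 0 := by
    intro h
    have := ha φ2
    rw [h] at this
    apply h2
    rw [hΘ] at this
    simpa using this
  have hb2 : b φ2 ≠ 0 := by
    intro h
    have := hb φ2
    rw [h, hφ2] at this
    change classInner (fun g => ψ (g ^ k)) (fun g => absSq χ (g ^ k)) = _ at this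
    rw [classInner_pow_pow hk ψ (absSq χ), ← classInner_conj_symm] at this
    apply h1
    simpa using this
  have hle : ∑ φ ∈ ({φ1, φ2} : Finset (IrrCharacter G)), a φ * b φ
      ≤ ∑ φ : IrrCharacter G, a φ * b φ :=
    Finset.sum_le_sum_of_subset (Finset.subset_univ _)
  rw [Finset.sum_pair hne, hsum] at hle
  have h3 : 1 ≤ a φ1 * b φ1 := Nat.one_le_iff_ne_zero.2 (Nat.mul_ne_zero ha1 hb1)
  have h4 : 1 ≤ a φ2 * b φ2 := Nat.one_le_iff_ne_zero.2 (Nat.mul_ne_zero ha2 hb2)
  omega

end key

section prim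

variable {G : Type*} [Group G] [Fintype G]

/-- if `χ = ξ^G` then every constituent of `(1_T)^G` is a constituent of `χ χ̄` -/
theorem absSq_inner_ne_zero_of_ind {χ : G → ℂ} (hχ : IsIrrCharacter G χ) (T : Subgroup G)
    [Fintype T] {ξ : T → ℂ} (hξ : IsIrrCharacter T ξ) (hind : indFun T ξ = χ)
    {φ : G → ℂ} (hφ : IsIrrCharacter G φ)
    (h : classInner (fun t : T => φ t) (fun _ : T => (1 : ℂ)) ≠ 0) :
    classInner (absSq χ) φ ≠ 0 := by
  have hone : IsIrrCharacter T (fun _ => (1 : ℂ)) := irr_one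
  have hφT : IsCharacter T (fun t : T => φ t) := char_restrict (irr_char hφ) T
  have hχT : IsCharacter T (fun t : T => χ t) := char_restrict (irr_char hχ) T
  set β : T → ℂ := (fun t : T => φ t) - fun _ => (1 : ℂ) with hβdef
  have hβ : IsCharacter T β := char_sub_irr hφT hone h
  have hprod : IsClassFunction G (fun g => χ g * φ g) :=
    char_cf (Helper74.IsCharacter.mul (irr_char hχ) (irr_char hφ))
  rw [classInner_absSq]
  have e0 : classInner χ (fun g => χ g * φ g) = classInner (indFun T ξ) (fun g => χ g * φ g) := by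
    rw [hind]
  rw [e0, classInner_indFun_left T ξ _ hprod]
  have e : (fun t : T => χ t * φ t)
      = (fun t : T => χ t) + (fun t : T => χ t * β t) := by
    funext t
    simp only [Pi.add_apply, Pi.sub_apply, hβdef]
    ring
  rw [e, classInner_add_right]
  have h1 : classInner ξ (fun t : T => χ t) = 1 := by
    rw [← classInner_indFun_left T ξ χ (irr_cf hχ), hind, irr_inner_self hχ]
  obtain ⟨m, hm⟩ := inner_nat (irr_char hξ) (Helper74.IsCharacter.mul hχT hβ)
  have hm' : classInner ξ (fun t : T => χ t * β t) = m := hm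
  rw [h1, hm']
  exact_mod_cast (by omega : 1 + m ≠ 0)

/-- `χ` is not induced from a proper subgroup -/
theorem eq_top_of_ind {χ : G → ℂ} (hχ : IsIrrCharacter G χ) {k : ℕ} (hk : k.Coprime (Nat.card G))
    (hirr : IsIrrCharacter G (fun g => χ g * χ (g ^ k))) (T : Subgroup G)
    [Fintype T] {ξ : T → ℂ} (hξ : IsIrrCharacter T ξ) (hind : indFun T ξ = χ) : T = ⊤ := by
  by_contra hT
  have honeT : IsIrrCharacter T (fun _ => (1 : ℂ)) := irr_one
  have honeG : IsIrrCharacter G (fun _ => (1 : ℂ)) := irr_one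
  set π : G → ℂ := indFun T (fun _ => (1 : ℂ)) with hπ
  have hπc : IsCharacter G π := char_indFun T (irr_char honeT)
  have hπ1 : classInner π (fun _ => (1 : ℂ)) = 1 := by
    rw [hπ, classInner_indFun_left T _ _ (irr_cf honeG)]
    exact irr_inner_self honeT
  have hα : IsCharacter G (π - fun _ => (1 : ℂ)) :=
    char_sub_irr hπc honeG (by rw [hπ1]; exact one_ne_zero)
  have hα0 : (π - fun _ => (1 : ℂ)) ≠ 0 := by
    intro h
    have h1 := congrFun h 1
    simp only [Pi.sub_apply, Pi.zero_apply, hπ, indFun_one, mul_one] at h1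
    have h2 : (T.index : ℂ) = 1 := by linear_combination h1
    have h3 : T.index = 1 := by exact_mod_cast h2
    exact hT (Subgroup.index_eq_one.1 h3)
  obtain ⟨ψ, hψ, hψα⟩ := exists_constituent hα hα0
  have hψ1 : ψ ≠ fun _ => (1 : ℂ) := by
    rintro rfl
    apply hψα
    rw [classInner_sub_left, hπ1, irr_inner_self honeG, sub_self]
  have hπψ : classInner π ψ ≠ 0 := by
    rw [classInner_sub_left, irr_inner_ne honeG hψ (Ne.symm hψ1), sub_zero] at hψα
    exact hψα
  have h1 : classInner (fun t : T => ψ t) (fun _ : T => (1 : ℂ)) ≠ 0 := by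
    rw [hπ, classInner_indFun_left T _ _ (irr_cf hψ)] at hπψ
    rw [← classInner_conj_symm]
    simpa using hπψ
  have h2 : classInner (fun t : T => ψ ((t : G) ^ k)) (fun _ : T => (1 : ℂ)) ≠ 0 := by
    have e := classInner_pow_pow (coprime_card_subgroup hk T) (fun t : T => ψ t)
      (fun _ : T => (1 : ℂ))
    simp only [Subgroup.coe_pow] at e
    rw [e]
    exact h1
  exact key_lemma hχ hk hirr hψ hψ1 (absSq_inner_ne_zero_of_ind hχ T hξ hind hψ h1)
    (absSq_inner_ne_zero_of_ind hχ T hξ hind (Helper76.isIrrCharacter_pow_coprime hψ hk) h2)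

/-- every constituent of the restriction of `χ` to a normal subgroup is invariant -/
theorem invariant_of_constituent {χ : G → ℂ} (hχ : IsIrrCharacter G χ) {k : ℕ}
    (hk : k.Coprime (Nat.card G)) (hirr : IsIrrCharacter G (fun g => χ g * χ (g ^ k)))
    (N : Subgroup G) [hN : N.Normal] [Fintype N] {θ : N → ℂ} (hθ : IsIrrCharacter N θ)
    (h : classInner (fun n : N => χ n) θ ≠ 0) (g : G) : cj N g θ = θ := by
  classical
  have := Fintype.ofFinite (Helper79.inertia N θ)
  obtain ⟨-, -, -, h4⟩ := clifford_correspondence N hθ (Helper79.inertia N θ)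
    (fun g => Helper79.mem_inertia N) (Helper79.le_inertia N (irr_cf hθ))
  obtain ⟨ξ, hξ, -, hind⟩ := h4 χ hχ h
  have htop := eq_top_of_ind hχ hk hirr _ hξ hind
  have : g ∈ Helper79.inertia N θ := by rw [htop]; exact Subgroup.mem_top g
  exact this

/-- abelian normal subgroups are central -/
theorem abelian_normal_le_center {χ : G → ℂ} (hχ : IsIrrCharacter G χ)
    (hfaith : ∀ g : G, χ g = χ 1 → g = 1) {k : ℕ}
    (hk : k.Coprime (Nat.card G)) (hirr : IsIrrCharacter G (fun g => χ g * χ (g ^ k)))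
    (A : Subgroup G) [hA : A.Normal] (hcomm : ∀ a ∈ A, ∀ b ∈ A, a * b = b * a) :
    A ≤ Subgroup.center G := by
  classical
  have := Fintype.ofFinite A
  have hχA : IsCharacter A (fun a : A => χ a) := char_restrict (irr_char hχ) A
  have hχA0 : (fun a : A => χ a) ≠ 0 := by
    intro h
    exact irr_one_ne_zero hχ (congrFun h 1)
  obtain ⟨θ, hθ, hθχ⟩ := exists_constituent hχA hχA0
  have hinv := invariant_of_constituent hχ hk hirr A hθ hθχ
  have hres := restrict_eq_smul_of_invariant A hχ hθ hθχ hinv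
  have hθ1 : θ 1 = 1 := Helper80.char_one_eq_one_of_comm
    (fun a b => Subtype.ext (hcomm a a.2 b b.2)) ⟨θ, hθ⟩
  obtain ⟨f, rfl⟩ := exists_toFn (irr_char hθ) hθ1
  intro a ha
  rw [Subgroup.mem_center_iff]
  intro g
  have hc : g * a⁻¹ * g⁻¹ ∈ A := hA.conj_mem _ (A.inv_mem ha) g
  have h1 : χ (a * (g * a⁻¹ * g⁻¹)) = χ 1 := by
    have e1 := congrFun hres (⟨a, ha⟩ * ⟨g * a⁻¹ * g⁻¹, hc⟩)
    have e2 := congrFun hres 1
    have e3 := congrFun (hinv g) ⟨a⁻¹, A.inv_mem ha⟩
    simp only [Pi.smul_apply, smul_eq_mul, toFn_apply, map_mul, Units.val_mul, cj_apply,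
      map_one, Units.val_one, Subgroup.coe_mul, Subgroup.coe_one] at e1 e2 e3
    rw [e1, e2, e3, ← Units.val_mul, ← map_mul]
    have : (⟨a, ha⟩ : A) * ⟨a⁻¹, A.inv_mem ha⟩ = 1 := Subtype.ext (mul_inv_cancel a)
    rw [this, map_one, Units.val_one]
  have h2 := hfaith _ h1
  have : g * a = a * (g * a⁻¹ * g⁻¹) * (g * a) := by rw [h2, one_mul]
  rw [this]; group

end prim

section cenMod

variable {G : Type*} [Group G]

theorem comm_mul_of_central (a b x : G) (hb : b * x * b⁻¹ * x⁻¹ ∈ Subgroup.center G) :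
    (a * b) * x * (a * b)⁻¹ * x⁻¹ = (a * x * a⁻¹ * x⁻¹) * (b * x * b⁻¹ * x⁻¹) := by
  have hc := Subgroup.mem_center_iff.1 hb
  calc (a * b) * x * (a * b)⁻¹ * x⁻¹ = a * (b * x * b⁻¹ * x⁻¹) * (x * a⁻¹ * x⁻¹) := by group
    _ = (b * x * b⁻¹ * x⁻¹) * a * (x * a⁻¹ * x⁻¹) := by rw [hc a]
    _ = (b * x * b⁻¹ * x⁻¹) * (a * x * a⁻¹ * x⁻¹) := by group
    _ = (a * x * a⁻¹ * x⁻¹) * (b * x * b⁻¹ * x⁻¹) := (hc _).symm

/-- The subgroup of elements commuting with `x` modulo the centre. -/
def cenMod (x : G) : Subgroup G where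
  carrier := {g | g * x * g⁻¹ * x⁻¹ ∈ Subgroup.center G}
  one_mem' := by
    change 1 * x * 1⁻¹ * x⁻¹ ∈ Subgroup.center G
    have : 1 * x * 1⁻¹ * x⁻¹ = 1 := by group
    rw [this]; exact Subgroup.one_mem _
  mul_mem' := by
    intro a b ha hb
    change (a * b) * x * (a * b)⁻¹ * x⁻¹ ∈ Subgroup.center G
    rw [comm_mul_of_central a b x hb]
    exact Subgroup.mul_mem _ ha hb
  inv_mem' := by
    intro a ha
    change a⁻¹ * x * a⁻¹⁻¹ * x⁻¹ ∈ Subgroup.center G
    have hc := Subgroup.mem_center_iff.1 ha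
    have e : a⁻¹ * x * a⁻¹⁻¹ * x⁻¹ = (a⁻¹ * (a * x * a⁻¹ * x⁻¹) * a)⁻¹ := by group
    rw [e, hc a⁻¹, mul_assoc, inv_mul_cancel, mul_one]
    exact Subgroup.inv_mem _ ha

theorem mem_cenMod {x g : G} : g ∈ cenMod x ↔ g * x * g⁻¹ * x⁻¹ ∈ Subgroup.center G := Iff.rfl

/-- the linear character `t ↦ ω [t, x]` of `cenMod x` -/
noncomputable def twist (ω : Subgroup.center G →* ℂˣ) (x : G) : cenMod x →* ℂˣ :=
  MonoidHom.mk' (fun t => ω ⟨(t : G) * x * (t : G)⁻¹ * x⁻¹, t.2⟩) (by
    intro a b
    rw [← map_mul]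
    congr 1
    apply Subtype.ext
    exact comm_mul_of_central (a : G) (b : G) x b.2)

theorem twist_apply (ω : Subgroup.center G →* ℂˣ) (x : G) (t : cenMod x) :
    twist ω x t = ω ⟨(t : G) * x * (t : G)⁻¹ * x⁻¹, t.2⟩ := rfl

end cenMod

section main

variable {G : Type*} [Group G] [Fintype G]

theorem classInner_self_ne_zero {f : G → ℂ} (h : f 1 ≠ 0) : classInner f f ≠ 0 := by
  unfold classInner
  apply mul_ne_zero (inv_ne_zero (card_ne_zero G))
  have e : ∑ g : G, f g * conj (f g) = ((∑ g : G, Complex.normSq (f g) : ℝ) : ℂ) := by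
    push_cast
    apply Finset.sum_congr rfl
    intro g _
    rw [Complex.mul_conj]
  rw [e]
  have : 0 < ∑ g : G, Complex.normSq (f g) :=
    Finset.sum_pos' (fun g _ => Complex.normSq_nonneg _)
      ⟨1, Finset.mem_univ _, Complex.normSq_pos.2 h⟩
  exact_mod_cast this.ne'

theorem mem_of_pow_mem {k : ℕ} (hk : k.Coprime (Nat.card G)) (T : Subgroup G) {y : G}
    (h : y ^ k ∈ T) : y ∈ T := by
  have e : y = (y ^ k) ^ ((Nat.card G).gcdB k) :=
    ((powCoprime hk.symm).symm_apply_apply y).symm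
  rw [e]
  exact T.zpow_mem h _

/-- Galois conjugates of characters induced from linear characters -/
theorem indFun_toFn_pow {k : ℕ} (hk : k.Coprime (Nat.card G)) (T : Subgroup G) (ν : T →* ℂˣ) :
    (fun g => indFun T (toFn ν) (g ^ k)) = indFun T (toFn (ν ^ k)) := by
  funext g
  simp only [indFun_apply]
  congr 1
  apply Finset.sum_congr rfl
  intro x _
  have e : x⁻¹ * g ^ k * x = (x⁻¹ * g * x) ^ k := by
    have := conj_pow (a := x⁻¹) (b := g) (i := k)
    simpa using this.symm
  rw [e]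
  by_cases h : x⁻¹ * g * x ∈ T
  · rw [extendByZero_mem T _ (T.pow_mem h k), extendByZero_mem T _ h, toFn_apply, toFn_apply,
      MonoidHom.pow_apply, ← map_pow]
    rfl
  · rw [extendByZero_not_mem T _ h, extendByZero_not_mem T _ (fun h' => h (mem_of_pow_mem hk T h'))]

/-- a normal subgroup of class at most two modulo the centre is central -/
theorem normal_step {χ : G → ℂ} (hχ : IsIrrCharacter G χ)
    (hfaith : ∀ g : G, χ g = χ 1 → g = 1) {k : ℕ}
    (hk : k.Coprime (Nat.card G)) (hirr : IsIrrCharacter G (fun g => χ g * χ (g ^ k)))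
    (E : Subgroup G) [hE : E.Normal]
    (hEE : ∀ a ∈ E, ∀ b ∈ E, a * b * a⁻¹ * b⁻¹ ∈ Subgroup.center G) :
    E ≤ Subgroup.center G := by
  classical
  by_contra hcon
  obtain ⟨x, hxE, hxZ⟩ := SetLike.not_le_iff_exists.1 hcon
  -- the centre of `E` is central
  have hA : E ⊓ Subgroup.centralizer (E : Set G) ≤ Subgroup.center G := by
    apply abelian_normal_le_center hχ hfaith hk hirr
    intro a ha b hb
    exact (Subgroup.mem_centralizer_iff.1 hb.2 a ha.1)
  obtain ⟨ω, hω⟩ := Helper76.irr_central_char hχ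
  have hωinj : Function.Injective ω := by
    rw [injective_iff_map_eq_one]
    intro z hz
    have h1 := hω z 1
    rw [hz, mul_one, Units.val_one, one_mul] at h1
    exact Subtype.ext (hfaith _ h1)
  set T : Subgroup G := cenMod x with hTdef
  have := Fintype.ofFinite T
  have := Fintype.ofFinite E
  have hET : E ≤ T := fun n hn => hEE n hn x hxE
  set ν : T →* ℂˣ := twist ω x with hν
  have hνirr : IsIrrCharacter T (toFn ν) := Helper74.isIrrCharacter_of_hom ν
  -- `χ ν = χ` on `T`
  have hfix : ∀ t : T, (ν t : ℂ) * χ t = χ t := by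
    intro t
    have h1 := hω ⟨(t : G) * x * (t : G)⁻¹ * x⁻¹, t.2⟩ (x * t * x⁻¹)
    have e : (t : G) * x * (t : G)⁻¹ * x⁻¹ * (x * t * x⁻¹) = t := by group
    simp only [e] at h1
    rw [irr_cf hχ] at h1
    exact h1.symm
  have hfixpow : ∀ (j : ℕ) (t : T), ((ν t : ℂ)) ^ j * χ t = χ t := by
    intro j t
    induction j with
    | zero => simp
    | succ j ih => rw [pow_succ, mul_assoc, hfix, ih]
  have hcons : ∀ j : ℕ, classInner (absSq χ) (indFun T (toFn (ν ^ j))) ≠ 0 := by
    intro j
    rw [classInner_indFun_right T _ _ (char_cf (char_absSq (irr_char hχ)))]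
    have e : classInner (fun t : T => absSq χ t) (toFn (ν ^ j))
        = classInner (fun t : T => χ t) (fun t : T => χ t) := by
      unfold classInner
      congr 1
      apply Finset.sum_congr rfl
      intro t _
      have h1 := hfixpow j t
      simp only [absSq, toFn_apply, MonoidHom.pow_apply, Units.val_pow_eq_pow_val]
      rw [mul_assoc, ← map_mul, mul_comm (χ (t : G)) ((ν t : ℂ) ^ j), h1]
    rw [e]
    exact classInner_self_ne_zero (irr_one_ne_zero hχ)
  -- the restriction of `ν` to `E`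
  set μ : E → ℂ := resFun hET (toFn ν) with hμ
  have hμirr : IsIrrCharacter E μ :=
    Helper74.isIrrCharacter_of_hom (ν.comp (Subgroup.inclusion hET))
  have hT : ∀ g : G, g ∈ T ↔ cj E g μ = μ := by
    intro g
    constructor
    · intro hg
      funext n
      rw [cj_apply, hμ, resFun_apply, resFun_apply, toFn_apply, toFn_apply]
      have e : (⟨g * n * g⁻¹, hET (hE.conj_mem n n.2 g)⟩ : T)
          = ⟨g, hg⟩ * ⟨n, hET n.2⟩ * ⟨g, hg⟩⁻¹ := rfl
      simp only [] at e ⊢
      rw [e, map_mul, map_mul, map_inv, mul_comm, inv_mul_cancel_left]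
    · intro hg
      have hy : x⁻¹ * (g⁻¹ * x * g) ∈ E ⊓ Subgroup.centralizer (E : Set G) := by
        refine Subgroup.mem_inf.2
          ⟨E.mul_mem (E.inv_mem hxE) (by simpa using hE.conj_mem x hxE g⁻¹), ?_⟩
        rw [Subgroup.mem_centralizer_iff]
        intro n hn
        have h1 := congrFun hg ⟨n⁻¹, E.inv_mem hn⟩
        rw [cj_apply, hμ, resFun_apply, resFun_apply, toFn_apply, toFn_apply] at h1
        have h2 := hωinj (Units.ext h1)
        have h3 : g * n⁻¹ * g⁻¹ * x * (g * n⁻¹ * g⁻¹)⁻¹ * x⁻¹ = n⁻¹ * x * n⁻¹⁻¹ * x⁻¹ :=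
          congrArg Subtype.val h2
        have hc : n⁻¹ * x * n⁻¹⁻¹ * x⁻¹ ∈ Subgroup.center G := hEE _ (E.inv_mem hn) x hxE
        have hc' := Subgroup.mem_center_iff.1 hc g
        -- `n⁻¹ y n y⁻¹ = n⁻¹ x n x⁻¹` with `y = g⁻¹ x g`
        have h4 : n⁻¹ * (g⁻¹ * x * g) * n * (g⁻¹ * x * g)⁻¹ = n⁻¹ * x * n⁻¹⁻¹ * x⁻¹ := by
          have : n⁻¹ * (g⁻¹ * x * g) * n * (g⁻¹ * x * g)⁻¹
              = g⁻¹ * (g * n⁻¹ * g⁻¹ * x * (g * n⁻¹ * g⁻¹)⁻¹ * x⁻¹) * g := by group
          rw [this, h3, mul_assoc, ← hc', inv_mul_cancel_left]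
        have h5 : (g⁻¹ * x * g) * n * (g⁻¹ * x * g)⁻¹ = x * n * x⁻¹ := by
          have := congrArg (fun w => n * w) h4
          simp only [inv_inv] at this
          simpa [mul_assoc] using this
        calc n * (x⁻¹ * (g⁻¹ * x * g))
            = x⁻¹ * (x * n * x⁻¹) * (g⁻¹ * x * g) := by group
          _ = x⁻¹ * ((g⁻¹ * x * g) * n * (g⁻¹ * x * g)⁻¹) * (g⁻¹ * x * g) := by rw [h5]
          _ = x⁻¹ * (g⁻¹ * x * g) * n := by group
      have hz := hA hy
      have h6 := (inferInstance : (Subgroup.center G).Normal).conj_mem _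
        (Subgroup.inv_mem _ hz) (g * x)
      rw [hTdef, mem_cenMod]
      convert h6 using 1
      group
  have hind : IsIrrCharacter G (indFun T (toFn ν)) := by
    apply (clifford_correspondence E hμirr T hT hET).1 (toFn ν) hνirr
    rw [← hμ, irr_inner_self hμirr]
    exact one_ne_zero
  -- `ν` is not trivial
  have hν1 : toFn ν ≠ fun _ => (1 : ℂ) := by
    intro h
    apply hxZ
    apply hA
    refine Subgroup.mem_inf.2 ⟨hxE, ?_⟩
    rw [Subgroup.mem_centralizer_iff]
    intro n hn
    have h1 := congrFun h ⟨n, hET hn⟩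
    rw [toFn_apply] at h1
    have h2 : ν ⟨n, hET hn⟩ = 1 := Units.ext h1
    rw [hν, twist_apply, ← map_one ω] at h2
    have h3 : n * x * n⁻¹ * x⁻¹ = 1 := congrArg Subtype.val (hωinj h2)
    calc n * x = (n * x * n⁻¹ * x⁻¹) * (x * n) := by group
      _ = x * n := by rw [h3, one_mul]
  have hind1 : indFun T (toFn ν) ≠ fun _ => (1 : ℂ) := by
    intro h
    have honeG : IsIrrCharacter G (fun _ => (1 : ℂ)) := irr_one
    have honeT : IsIrrCharacter T (fun _ => (1 : ℂ)) := irr_one
    have h1 : classInner (indFun T (toFn ν)) (fun _ => (1 : ℂ)) = 0 := by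
      rw [classInner_indFun_left T _ _ (irr_cf honeG)]
      exact irr_inner_ne hνirr honeT hν1
    rw [h, irr_inner_self honeG] at h1
    exact one_ne_zero h1
  have h1 := hcons 1
  have e1 : ν ^ 1 = ν := pow_one ν
  rw [e1] at h1
  have h2 := hcons k
  rw [← indFun_toFn_pow hk T ν] at h2
  exact key_lemma hχ hk hirr hind hind1 h1 h2

/-- nilpotent normal subgroups are central -/
theorem nilpotent_normal_le_center {χ : G → ℂ} (hχ : IsIrrCharacter G χ)
    (hfaith : ∀ g : G, χ g = χ 1 → g = 1) {k : ℕ}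
    (hk : k.Coprime (Nat.card G)) (hirr : IsIrrCharacter G (fun g => χ g * χ (g ^ k)))
    (N : Subgroup G) [hN : N.Normal] (hnil : Group.IsNilpotent N) :
    N ≤ Subgroup.center G := by
  have hLs : ∀ i, N.lowerCentralSeries (i + 1) = ⁅N.lowerCentralSeries i, N⁆ := fun i => rfl
  have hLn : ∀ i, (N.lowerCentralSeries i).Normal := by
    intro i
    induction i with
    | zero => exact hN
    | succ i ih => rw [hLs]; exact Subgroup.commutator_normal _ _
  have hLle : ∀ i, N.lowerCentralSeries i ≤ N := fun i =>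
    N.lowerCentralSeries_antitone (Nat.zero_le i)
  obtain ⟨c, hLc⟩ := (Subgroup.isNilpotent_iff_lowerCentralSeries N).1 hnil
  have key : ∀ j, j ≤ c → N.lowerCentralSeries (c - j) ≤ Subgroup.center G := by
    intro j
    induction j with
    | zero => intro _; rw [Nat.sub_zero, hLc]; exact bot_le
    | succ j ih =>
      intro hj
      have h1 := ih (by omega)
      have e : c - j = (c - (j + 1)) + 1 := by omega
      rw [e, hLs] at h1
      have hn := hLn (c - (j + 1))
      apply normal_step hχ hfaith hk hirr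
      intro a ha b hb
      apply h1
      have := Subgroup.commutator_mem_commutator ha (hLle _ hb)
      rwa [commutatorElement_def] at this
  have := key c le_rfl
  rwa [Nat.sub_self] at this

end main

end Cfsg.Agent.Lib.Helper77.GalProd
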