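import Mathlib
import Cfsg.Agent.Lib.Helper78.SubsecAvg

/-!
# Major subsections (helper77)

Built on helper78's contribution matrices `subAlpha`.  For a major subsection `(x, b)` of `B`
(`b^G = B`, same defect) the contributions `subAlpha χ ψ₀` (`ψ₀` of height zero) do not vanish,
for all `χ ∈ B` (Brauer).  If moreover `l(b) = 1` then `k(B) ≤ p^d`.
-/

set_option autoImplicit false
set_option linter.unusedSectionVars false

namespace Cfsg.Agent.Lib.Helper77b

open Cfsg Cfsg.Agent.Lib.Helper4 Cfsg.Agent.Lib.Helper16 Cfsg.Agent.Lib.Helper97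
  Cfsg.Agent.Lib.Helper78
open scoped ComplexConjugate

section K

variable {K : Type*} [Group K] [Fintype K] {M : Ideal AlgInt} {p : ℕ} [Fact p.Prime]

open Classical in
theorem sum_regular_irr_blockPart (hM : IsPModular p M) {b : Set (IrrCharacter K)}
    (hb : IsPBlock M b) (Ψ : K → ℂ) {ξ : IrrCharacter K} (hξ : ξ ∉ b) :
    ∑ s : K, (if ¬ p ∣ orderOf s then (ξ : K → ℂ) s * conj (blockPart b Ψ s) else 0) = 0 := by
  have h1 : ∀ s : K, (if ¬ p ∣ orderOf s then (ξ : K → ℂ) s * conj (blockPart b Ψ s) else 0)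
      = ∑ ζ : IrrCharacter K, (if ζ ∈ b then conj (classInner Ψ (ζ : K → ℂ)) *
          (if ¬ p ∣ orderOf s then (ξ : K → ℂ) s * conj ((ζ : K → ℂ) s) else 0) else 0) := by
    intro s
    by_cases hs : p ∣ orderOf s
    · simp [hs]
    · simp only [if_pos hs]
      rw [blockPart_apply, map_sum, Finset.mul_sum]
      refine Finset.sum_congr rfl fun ζ _ => ?_
      split_ifs
      · rw [map_mul]; ring
      · simp
  rw [Finset.sum_congr rfl fun s _ => h1 s, Finset.sum_comm]
  refine Finset.sum_eq_zero fun ζ _ => ?_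
  by_cases hζ : ζ ∈ b
  · simp only [if_pos hζ]
    rw [← Finset.mul_sum]
    have h2 := sum_regular_eq_zero hM hb hζ hξ
    have h3 := congrArg conj h2
    rw [map_zero, map_sum] at h3
    have h4 : ∑ s : K, (if ¬ p ∣ orderOf s then (ξ : K → ℂ) s * conj ((ζ : K → ℂ) s) else 0) = 0 := by
      refine Eq.trans ?_ h3
      refine Finset.sum_congr rfl fun s _ => ?_
      by_cases hs : p ∣ orderOf s
      · simp [hs]
      · simp only [if_pos hs]
        rw [map_mul, Complex.conj_conj, mul_comm]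
    rw [h4, mul_zero]
  · simp [hζ]

open Classical in
/-- self-adjointness of the block projection on regular elements -/
theorem sum_blockPart_regular (hM : IsPModular p M) {b : Set (IrrCharacter K)}
    (hb : IsPBlock M b) {Φ : K → ℂ} (hΦ : IsClassFunction K Φ) (Ψ : K → ℂ) :
    ∑ s : K, (if ¬ p ∣ orderOf s then blockPart b Φ s * conj (blockPart b Ψ s) else 0)
      = ∑ s : K, (if ¬ p ∣ orderOf s then Φ s * conj (blockPart b Ψ s) else 0) := by
  have h1 : ∀ s : K, (if ¬ p ∣ orderOf s then blockPart b Φ s * conj (blockPart b Ψ s) else 0)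
      = ∑ ξ : IrrCharacter K, (if ξ ∈ b then classInner Φ (ξ : K → ℂ) else 0) *
        (if ¬ p ∣ orderOf s then (ξ : K → ℂ) s * conj (blockPart b Ψ s) else 0) := by
    intro s
    by_cases hs : p ∣ orderOf s
    · simp [hs]
    · simp only [if_pos hs]
      rw [blockPart_apply b Φ, Finset.sum_mul]
      refine Finset.sum_congr rfl fun ξ _ => ?_
      split_ifs <;> ring
  have h2 : ∀ s : K, (if ¬ p ∣ orderOf s then Φ s * conj (blockPart b Ψ s) else 0)
      = ∑ ξ : IrrCharacter K, classInner Φ (ξ : K → ℂ) *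
        (if ¬ p ∣ orderOf s then (ξ : K → ℂ) s * conj (blockPart b Ψ s) else 0) := by
    intro s
    by_cases hs : p ∣ orderOf s
    · simp [hs]
    · simp only [if_pos hs]
      conv_lhs => rw [← sum_classInner_mul hΦ s]
      rw [Finset.sum_mul]
      refine Finset.sum_congr rfl fun ξ _ => by ring
  rw [Finset.sum_congr rfl fun s _ => h1 s, Finset.sum_congr rfl fun s _ => h2 s,
    Finset.sum_comm, Finset.sum_comm (s := Finset.univ (α := K))]
  refine Finset.sum_congr rfl fun ξ _ => ?_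
  rw [← Finset.mul_sum, ← Finset.mul_sum]
  by_cases hξ : ξ ∈ b
  · rw [if_pos hξ]
  · rw [sum_regular_irr_blockPart hM hb Ψ hξ, mul_zero, mul_zero]

theorem index_centralizer_conj (g h : K) :
    (Subgroup.centralizer ({h * g * h⁻¹} : Set K)).index
      = (Subgroup.centralizer ({g} : Set K)).index := by
  classical
  rw [index_centralizer_eq_card, index_centralizer_eq_card]
  congr 1
  ext y
  simp only [Finset.mem_filter, Finset.mem_univ, true_and]
  have h1 : IsConj g (h * g * h⁻¹) := isConj_iff.2 ⟨h, rfl⟩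
  exact ⟨fun h2 => h1.trans h2, fun h2 => h1.symm.trans h2⟩

open Classical in
/-- a sum over conjugacy classes, written as a weighted sum over the group -/
theorem sum_div_index {F : K → ℂ} (hF : IsClassFunction K F) :
    ∑ s : K, F s / ((Subgroup.centralizer ({s} : Set K)).index : ℂ)
      = ∑ C : ConjClasses K, F (Quotient.out C) := by
  have hF' : IsClassFunction K
      (fun s => F s / ((Subgroup.centralizer ({s} : Set K)).index : ℂ)) := by
    intro g h
    show F _ / _ = F _ / _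
    rw [hF g h, index_centralizer_conj]
  rw [sum_eq_sum_conjClasses hF']
  refine Finset.sum_congr rfl fun C _ => ?_
  have h0 : ((Subgroup.centralizer ({Quotient.out C} : Set K)).index : ℂ) ≠ 0 := by
    exact_mod_cast Subgroup.index_ne_zero_of_finite
  field_simp

theorem memLocalIdeal_sum_div_index (hP : M.IsPrime) {F : K → ℂ} (hF : IsClassFunction K F)
    (h : ∀ s, MemLocalIdeal M (F s)) :
    MemLocalIdeal M (∑ s : K, F s / ((Subgroup.centralizer ({s} : Set K)).index : ℂ)) := by
  classical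
  rw [sum_div_index hF]
  exact MemLocalIdeal.sum hP _ _ fun C _ => h _

theorem centralChar_isClassFunction' {χ : K → ℂ} (hχ : IsClassFunction K χ) :
    IsClassFunction K (centralChar χ) := by
  intro g h
  unfold centralChar
  rw [index_centralizer_conj, hχ]

theorem blockPart_isClassFunction' (b : Set (IrrCharacter K)) (Ψ : K → ℂ) :
    IsClassFunction K (blockPart b Ψ) := by
  classical
  intro g h
  rw [blockPart_apply, blockPart_apply]
  refine Finset.sum_congr rfl fun ξ _ => ?_
  rw [irr_isClassFunction ξ g h]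

theorem orderOf_conj' (g h : K) : orderOf (h * g * h⁻¹) = orderOf g := by
  have : h * g * h⁻¹ = MulAut.conj h g := rfl
  rw [this, MulEquiv.orderOf_eq]

end K

section G

variable {G : Type*} [Group G] [Fintype G]
variable {M : Ideal AlgInt} {p : ℕ} [Fact p.Prime]

theorem tw_isClassFunction (x : G) {χ : G → ℂ} (hχ : IsClassFunction G χ) :
    IsClassFunction (Cen x) (tw x χ) := by
  intro g h
  show χ (x * ((h * g * h⁻¹ : Cen x) : G)) = χ (x * (g : G))
  have hx : (h : G) * x = x * (h : G) := Subgroup.mem_centralizer_singleton_iff.1 h.2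
  have h1 : x * ((h * g * h⁻¹ : Cen x) : G) = (h : G) * (x * (g : G)) * (h : G)⁻¹ := by
    push_cast
    calc x * ((h : G) * (g : G) * (h : G)⁻¹) = (x * (h : G)) * (g : G) * (h : G)⁻¹ := by group
      _ = ((h : G) * x) * (g : G) * (h : G)⁻¹ := by rw [hx]
      _ = (h : G) * (x * (g : G)) * (h : G)⁻¹ := by group
  rw [h1, hχ]

/-- `C_G(x s) ≅ C_{C_G(x)}(s)` for a `p`-element `x` and a `p`-regular `s ∈ C_G(x)` -/
theorem card_centralizer_mul (x : G) {k : ℕ} (hx : orderOf x = p ^ k) (s : Cen x)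
    (hs : ¬ p ∣ orderOf s) :
    Nat.card (Subgroup.centralizer ({x * (s : G)} : Set G))
      = Nat.card (Subgroup.centralizer ({s} : Set (Cen x))) := by
  have hp : p.Prime := Fact.out
  have hxs : Commute x (s : G) := (Subgroup.mem_centralizer_singleton_iff.1 s.2).symm
  have hs' : ¬ p ∣ orderOf (s : G) := by rwa [Subgroup.orderOf_coe]
  have hxk : x ^ p ^ k = 1 := by rw [← hx]; exact pow_orderOf_eq_one x
  have key : ∀ g : G, g ∈ Subgroup.centralizer ({x * (s : G)} : Set G) →
      g * (s : G) = (s : G) * g ∧ g * x = x * g := by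
    intro g hg
    have h1 : g * (s : G) = (s : G) * g :=
      Subgroup.mem_centralizer_singleton_iff.1 (centralizer_mul_le hp hxs hxk hs' hg)
    have h2 : g * (x * (s : G)) = x * (s : G) * g := Subgroup.mem_centralizer_singleton_iff.1 hg
    refine ⟨h1, ?_⟩
    have h3 : g * x * (s : G) = x * g * (s : G) := by
      calc g * x * (s : G) = g * (x * (s : G)) := by group
        _ = x * (s : G) * g := h2
        _ = x * ((s : G) * g) := by group
        _ = x * (g * (s : G)) := by rw [h1]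
        _ = x * g * (s : G) := by group
    exact mul_right_cancel h3
  refine Nat.card_congr ⟨fun g => ⟨⟨g.1, Subgroup.mem_centralizer_singleton_iff.2 (key g.1 g.2).2⟩,
    Subgroup.mem_centralizer_singleton_iff.2 (Subtype.ext (key g.1 g.2).1)⟩,
    fun c => ⟨(c.1 : G), ?_⟩, fun _ => rfl, fun _ => rfl⟩
  rw [Subgroup.mem_centralizer_singleton_iff]
  have h1 : (c.1 : G) * x = x * (c.1 : G) := Subgroup.mem_centralizer_singleton_iff.1 c.1.2
  have h2 : (c.1 : G) * (s : G) = (s : G) * (c.1 : G) :=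
    congrArg Subtype.val (Subgroup.mem_centralizer_singleton_iff.1 c.2)
  calc (c.1 : G) * (x * (s : G)) = ((c.1 : G) * x) * (s : G) := by group
    _ = x * ((c.1 : G) * (s : G)) := by rw [h1]; group
    _ = x * (s : G) * (c.1 : G) := by rw [h2]; group

theorem tw_eq_centralChar (x : G) {k : ℕ} (hx : orderOf x = p ^ k) (χ : IrrCharacter G)
    (s : Cen x) (hs : ¬ p ∣ orderOf s) :
    tw x (χ : G → ℂ) s = (χ : G → ℂ) 1 * ((Fintype.card (Cen x) : ℂ) / (Fintype.card G : ℂ)) *
      (centralChar (χ : G → ℂ) (x * (s : G)) /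
        ((Subgroup.centralizer ({s} : Set (Cen x))).index : ℂ)) := by
  have h1 := centralChar_eq χ (x * (s : G))
  have h2 := (Subgroup.centralizer ({x * (s : G)} : Set G)).index_mul_card
  have h3 := (Subgroup.centralizer ({s} : Set (Cen x))).index_mul_card
  rw [card_centralizer_mul x hx s hs, Nat.card_eq_fintype_card (α := G)] at h2
  rw [Nat.card_eq_fintype_card (α := Cen x)] at h3
  have h2' : (((Subgroup.centralizer ({x * (s : G)} : Set G)).index : ℕ) : ℂ) *
      (Nat.card (Subgroup.centralizer ({s} : Set (Cen x))) : ℂ) = (Fintype.card G : ℂ) := by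
    exact_mod_cast h2
  have h3' : (((Subgroup.centralizer ({s} : Set (Cen x))).index : ℕ) : ℂ) *
      (Nat.card (Subgroup.centralizer ({s} : Set (Cen x))) : ℂ) = (Fintype.card (Cen x) : ℂ) := by
    exact_mod_cast h3
  have hc0 : (Nat.card (Subgroup.centralizer ({s} : Set (Cen x))) : ℂ) ≠ 0 := by
    exact_mod_cast Nat.card_pos.ne'
  have hi0 : (((Subgroup.centralizer ({x * (s : G)} : Set G)).index : ℕ) : ℂ) ≠ 0 := by
    exact_mod_cast Subgroup.index_ne_zero_of_finite
  have hj0 : (((Subgroup.centralizer ({s} : Set (Cen x))).index : ℕ) : ℂ) ≠ 0 := by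
    exact_mod_cast Subgroup.index_ne_zero_of_finite
  have hd0 : ((charDegree (χ : G → ℂ) : ℕ) : ℂ) ≠ 0 := by
    exact_mod_cast (irr_charDegree_pos χ).ne'
  rw [h1, ← h2', ← h3', irr_one_eq]
  show (χ : G → ℂ) (x * (s : G)) = _
  field_simp

open Classical in
/-- the contributions in terms of central characters -/
theorem subAlpha_eq_W (hM : IsPModular p M) (x : G) {k : ℕ} (hx : orderOf x = p ^ k)
    {b : Set (IrrCharacter (Cen x))} (hb : IsPBlock M b) (φ ψ : IrrCharacter G) :
    subAlpha p x b φ ψ = ((p ^ blockDefect p b : ℕ) : ℂ) * (φ : G → ℂ) 1 / (Fintype.card G : ℂ) *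
      ∑ s : Cen x, (if ¬ p ∣ orderOf s then centralChar (φ : G → ℂ) (x * (s : G)) *
        conj (blockPart b (tw x (ψ : G → ℂ)) s) else 0) /
          ((Subgroup.centralizer ({s} : Set (Cen x))).index : ℂ) := by
  unfold subAlpha
  have h1 : ∑ s : Cen x, Xr p x b φ s * conj (Xr p x b ψ s)
      = ∑ s : Cen x, (if ¬ p ∣ orderOf s then blockPart b (tw x (φ : G → ℂ)) s *
        conj (blockPart b (tw x (ψ : G → ℂ)) s) else 0) := by
    refine Finset.sum_congr rfl fun s _ => ?_
    unfold Xr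
    by_cases hs : p ∣ orderOf s
    · simp [hs]
    · simp only [if_pos hs]
  rw [h1, sum_blockPart_regular hM hb (tw_isClassFunction x (irr_isClassFunction φ)),
    Finset.mul_sum, Finset.mul_sum]
  refine Finset.sum_congr rfl fun s _ => ?_
  have hC0 : (Fintype.card (Cen x) : ℂ) ≠ 0 := by exact_mod_cast Fintype.card_ne_zero
  by_cases hs : p ∣ orderOf s
  · simp [hs]
  · simp only [if_pos hs]
    rw [tw_eq_centralChar x hx φ s hs]
    field_simp

open Classical in
/-- height zero characters have unit contributions (helper78) -/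
theorem not_memLocalIdeal_subAlpha (hM : IsPModular p M) (x : G) {k : ℕ} (hx : orderOf x = p ^ k)
    {B : Set (IrrCharacter G)} {b : Set (IrrCharacter (Cen x))}
    (hind : IsInducedBlock M (Cen x) b B) {χ ψ : IrrCharacter G} (hχ : χ ∈ B) (hψ : ψ ∈ B)
    (h0χ : blockHeight p B (χ : G → ℂ) = 0) (h0ψ : blockHeight p B (ψ : G → ℂ) = 0) :
    ¬ MemLocalIdeal M (subAlpha p x b χ ψ) := by
  have hMp : M.IsPrime := hM.2.1.isPrime
  obtain ⟨lam, nn, m, hl, hm, hα, hβ⟩ := exists_subsection_data hM x hx hind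
  have hw : ∀ ζ ξ, (lam ζ * conj (lam ξ)) ^ p ^ k = 1 := by
    intro ζ ξ
    rw [mul_pow, ← map_pow, hl, hl, map_one, one_mul]
  intro h0
  apply hβ χ hχ ψ hψ h0χ h0ψ
  have h1 : MemLocalIdeal M (subAlpha p x b χ ψ -
      ((∑ ζ ∈ Finset.univ.filter (· ∈ b), ∑ ξ ∈ Finset.univ.filter (· ∈ b),
        (nn χ ζ : ℤ) * (nn ψ ξ : ℤ) * m ζ ξ : ℤ) : ℂ)) := by
    rw [hα, Int.cast_sum, ← Finset.sum_sub_distrib]
    refine MemLocalIdeal.sum hMp _ _ fun ζ _ => ?_
    rw [Int.cast_sum, ← Finset.sum_sub_distrib]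
    refine MemLocalIdeal.sum hMp _ _ fun ξ _ => ?_
    have : lam ζ * conj (lam ξ) * (((nn χ ζ : ℤ) * (nn ψ ξ : ℤ) * m ζ ξ : ℤ) : ℂ)
        - (((nn χ ζ : ℤ) * (nn ψ ξ : ℤ) * m ζ ξ : ℤ) : ℂ)
        = (lam ζ * conj (lam ξ) - 1) * (((nn χ ζ : ℤ) * (nn ψ ξ : ℤ) * m ζ ξ : ℤ) : ℂ) := by
      ring
    rw [this]
    exact MemLocalIdeal.mul_right hMp (memLocalIdeal_root_sub_one hM (hw ζ ξ))
      (memLocalRing_intCast hMp _)
  rwa [← MemLocalIdeal.congr hMp h1]

theorem isIntegral_blockPart_tw (x : G) (b : Set (IrrCharacter (Cen x))) (ψ : IrrCharacter G)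
    (s : Cen x) : IsIntegral ℤ (blockPart b (tw x (ψ : G → ℂ)) s) := by
  classical
  rw [blockPart_apply]
  refine IsIntegral.sum _ fun ζ _ => ?_
  split_ifs
  · rw [classInner_tw]
    obtain ⟨n, hn⟩ := Helper74.IsCharacter.classInner_irr_nat
      (Helper74.IsCharacter.restrict (Helper74.IrrCharacter.isCharacter ψ) (Cen x)) ζ
    have : classInner (fun c : Cen x => (ψ : G → ℂ) (c : G)) (ζ : Cen x → ℂ) = (n : ℂ) := hn
    rw [this]
    exact ((isIntegral_central_ratio ζ (cenSelf_central x)).mul (isIntegral_natCast n)).mul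
      (irr_isIntegral ζ s)
  · exact isIntegral_zero

open Classical in
/-- **Brauer**: for a major subsection the contributions against a height zero character do not
vanish. -/
theorem subAlpha_ne_zero_of_major (hM : IsPModular p M) (x : G) {k : ℕ} (hx : orderOf x = p ^ k)
    {B : Set (IrrCharacter G)} {b : Set (IrrCharacter (Cen x))}
    (hind : IsInducedBlock M (Cen x) b B) (hmaj : blockDefect p b = blockDefect p B)
    {χ ψ : IrrCharacter G} (hχ : χ ∈ B) (hψ : ψ ∈ B)
    (h0 : blockHeight p B (ψ : G → ℂ) = 0) : subAlpha p x b χ ψ ≠ 0 := by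
  have hMp : M.IsPrime := hM.2.1.isPrime
  have hp : p.Prime := Fact.out
  have hW := fun φ => subAlpha_eq_W hM x hx hind.1 φ ψ
  set W : IrrCharacter G → ℂ := fun φ =>
    ∑ s : Cen x, (if ¬ p ∣ orderOf s then centralChar (φ : G → ℂ) (x * (s : G)) *
        conj (blockPart b (tw x (ψ : G → ℂ)) s) else 0) /
          ((Subgroup.centralizer ({s} : Set (Cen x))).index : ℂ) with hWdef
  have hdiff : MemLocalIdeal M (W χ - W ψ) := by
    have h1 : W χ - W ψ = ∑ s : Cen x, (if ¬ p ∣ orderOf s then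
        (tw x (centralChar (χ : G → ℂ)) s - tw x (centralChar (ψ : G → ℂ)) s) *
        conj (blockPart b (tw x (ψ : G → ℂ)) s) else 0) /
          ((Subgroup.centralizer ({s} : Set (Cen x))).index : ℂ) := by
      rw [hWdef]
      simp only
      rw [← Finset.sum_sub_distrib]
      refine Finset.sum_congr rfl fun s _ => ?_
      by_cases hs : p ∣ orderOf s
      · simp [hs]
      · simp only [if_pos hs]
        ring
    rw [h1]
    apply memLocalIdeal_sum_div_index hMp
    · intro g h
      simp only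
      rw [orderOf_conj', tw_isClassFunction x (centralChar_isClassFunction' (irr_isClassFunction χ)) g h,
        tw_isClassFunction x (centralChar_isClassFunction' (irr_isClassFunction ψ)) g h,
        blockPart_isClassFunction' b _ g h]
    · intro s
      by_cases hs : p ∣ orderOf s
      · simp only [hs, not_true_eq_false, if_false]
        exact memLocalIdeal_zero hMp
      · simp only [if_pos hs]
        refine MemLocalIdeal.mul_right hMp (IsPBlock.sameBlock hMp hind.2.1 hχ hψ _) ?_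
        exact memLocalRing_of_isIntegral hMp
          (map_isIntegral_int (starRingEnd ℂ) (isIntegral_blockPart_tw x b ψ s))
  have hdeg : (charDegree (ψ : G → ℂ)).factorization p = minDeg p B :=
    (blockHeight_eq_zero_iff hψ).1 h0
  have hle := minDeg_le_card (p := p) (⟨ψ, hψ⟩ : B.Nonempty)
  have hcR : MemLocalRing M (((p ^ blockDefect p b : ℕ) : ℂ) * (ψ : G → ℂ) 1 /
      (Fintype.card G : ℂ)) := by
    have h2 : ((p ^ blockDefect p b : ℕ) : ℂ) * (ψ : G → ℂ) 1 / (Fintype.card G : ℂ)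
        = ((p ^ blockDefect p b * charDegree (ψ : G → ℂ) : ℕ) : ℂ) / ((Fintype.card G : ℕ) : ℂ) := by
      rw [irr_one_eq]; push_cast; ring
    rw [h2]
    apply memLocalRing_natCast_div hM Fintype.card_ne_zero
    rw [Nat.factorization_mul (pow_ne_zero _ hp.ne_zero) (irr_charDegree_pos ψ).ne',
      Nat.factorization_pow, hmaj, blockDefect_eq, Nat.card_eq_fintype_card] 
    simp only [Finsupp.coe_add, Finsupp.coe_smul, Pi.add_apply, Pi.smul_apply, smul_eq_mul,
      hp.factorization_self, mul_one, hdeg]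
    rw [Nat.card_eq_fintype_card] at hle
    omega
  have hunit : ¬ MemLocalIdeal M (W ψ) := by
    intro h
    apply not_memLocalIdeal_subAlpha hM x hx hind hψ hψ h0 h0
    rw [hW ψ]
    exact MemLocalIdeal.mul_left hMp hcR h
  have hχu : ¬ MemLocalIdeal M (W χ) := by rwa [MemLocalIdeal.congr hMp hdiff]
  rw [hW χ]
  refine mul_ne_zero (div_ne_zero (mul_ne_zero ?_ (irr_one_ne_zero χ)) ?_)
    (ne_zero_of_not_memLocalIdeal hMp hχu)
  · exact_mod_cast pow_ne_zero _ hp.ne_zero
  · exact_mod_cast Fintype.card_ne_zero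

open Classical in
theorem Xr_eq_regProj (x : G) (b : Set (IrrCharacter (Cen x))) (χ : IrrCharacter G) :
    Xr p x b χ = regProj p b (tw x (χ : G → ℂ)) := by
  funext s
  unfold Xr
  by_cases hs : p ∣ orderOf s
  · rw [if_neg (not_not.2 hs), regProj_of_sing p b _ hs]
  · rw [if_pos hs, regProj_of_reg p b _ hs]

theorem sum_mul_conj_ne_zero {S : Type*} [Fintype S] {f : S → ℂ} (hf : f ≠ 0) :
    ∑ s, f s * conj (f s) ≠ 0 := by
  obtain ⟨s0, hs0⟩ := Function.ne_iff.1 hf
  have h1 : ∑ s, f s * conj (f s) = ((∑ s, Complex.normSq (f s) : ℝ) : ℂ) := by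
    push_cast
    refine Finset.sum_congr rfl fun s _ => ?_
    rw [Complex.mul_conj]
  rw [h1]
  have h2 : 0 < ∑ s, Complex.normSq (f s) :=
    Finset.sum_pos' (fun s _ => Complex.normSq_nonneg _)
      ⟨s0, Finset.mem_univ _, Complex.normSq_pos.2 hs0⟩
  exact_mod_cast h2.ne'

open Classical in
/-- for a major subsection with `l(b) = 1` all contributions are nonzero -/
theorem subAlpha_ne_zero_of_rank_one (hM : IsPModular p M) (x : G) {k : ℕ}
    (hx : orderOf x = p ^ k) {B : Set (IrrCharacter G)} {b : Set (IrrCharacter (Cen x))}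
    (hind : IsInducedBlock M (Cen x) b B) (hmaj : blockDefect p b = blockDefect p B)
    (hl : blockRank p b = 1) {χ ψ : IrrCharacter G} (hχ : χ ∈ B) (hψ : ψ ∈ B) :
    subAlpha p x b χ ψ ≠ 0 := by
  have hMp : M.IsPrime := hM.2.1.isPrime
  have hp : p.Prime := Fact.out
  obtain ⟨ψ0, hψ0, h0⟩ := exists_height_zero (p := p) (⟨ψ, hψ⟩ : B.Nonempty)
  have hne : ∀ φ ∈ B, Xr p x b φ ≠ 0 := by
    intro φ hφ h
    apply subAlpha_ne_zero_of_major hM x hx hind hmaj hφ hψ0 h0
    unfold subAlpha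
    rw [h]
    simp
  have hbu : ∀ ψ ∈ b, blockOf M (ψ : Cen x → ℂ) ⊆ b := fun ψ hψ =>
    (IsPBlock.eq_blockOf hMp hind.1 hψ).ge
  have hproj := regProj_isProj hM b hbu
  have hmem : ∀ φ : IrrCharacter G, Xr p x b φ ∈ Submodule.span ℂ
      ((fun χ : IrrCharacter (Cen x) => pRegularPart p (χ : Cen x → ℂ)) '' b) := by
    intro φ
    rw [Xr_eq_regProj]
    exact hproj.map_mem _
  have hχ0 : (⟨Xr p x b χ, hmem χ⟩ : Submodule.span ℂ
      ((fun χ : IrrCharacter (Cen x) => pRegularPart p (χ : Cen x → ℂ)) '' b)) ≠ 0 := by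
    intro h
    exact hne χ hχ (congrArg Subtype.val h)
  obtain ⟨c, hc⟩ := (finrank_eq_one_iff_of_nonzero' _ hχ0).1 hl ⟨Xr p x b ψ, hmem ψ⟩
  have hc' : c • Xr p x b χ = Xr p x b ψ := congrArg Subtype.val hc
  have hc0 : c ≠ 0 := by
    intro h
    rw [h, zero_smul] at hc'
    exact hne ψ hψ hc'.symm
  unfold subAlpha
  have h1 : ∑ s : Cen x, Xr p x b χ s * conj (Xr p x b ψ s)
      = conj c * ∑ s : Cen x, Xr p x b χ s * conj (Xr p x b χ s) := by
    rw [← hc', Finset.mul_sum]
    refine Finset.sum_congr rfl fun s _ => ?_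
    rw [Pi.smul_apply, smul_eq_mul, map_mul]; ring
  rw [h1]
  refine mul_ne_zero (div_ne_zero ?_ ?_) (mul_ne_zero ?_ (sum_mul_conj_ne_zero (hne χ hχ)))
  · exact_mod_cast pow_ne_zero _ hp.ne_zero
  · exact_mod_cast Fintype.card_ne_zero
  · exact (map_ne_zero _).2 hc0

open Classical in
/-- `k(B)² ≤ p^{2q} l(b)` if all contributions of `(x, b)` are nonzero -/
theorem sq_card_le_of_ne_zero (hM : IsPModular p M) (x : G) {k : ℕ} (hx : orderOf x = p ^ k)
    {B : Set (IrrCharacter G)} {b : Set (IrrCharacter (Cen x))}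
    (hind : IsInducedBlock M (Cen x) b B)
    (hne : ∀ χ ∈ B, ∀ ψ ∈ B, subAlpha p x b χ ψ ≠ 0) :
    (Finset.univ.filter (· ∈ B)).card ^ 2 ≤ p ^ (2 * blockDefect p b) * blockRank p b := by
  have hMp : M.IsPrime := hM.2.1.isPrime
  obtain ⟨lam, nn, m, hl, hm, hα, hβ⟩ := exists_subsection_data hM x hx hind
  obtain ⟨τ, hτ1, hτ2⟩ := galois_pkg (p ^ k)
  have hw : ∀ ζ ξ, (lam ζ * conj (lam ξ)) ^ p ^ k = 1 := by
    intro ζ ξ
    rw [mul_pow, ← map_pow, hl, hl, map_one, one_mul]
  have hαmem : ∀ χ ψ, subAlpha p x b χ ψ ∈ rootRing (p ^ k) := by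
    intro χ ψ
    rw [hα]
    refine Subring.sum_mem _ fun ζ _ => Subring.sum_mem _ fun ξ _ => ?_
    exact Subring.mul_mem _ (mem_rootRing_of_pow (hw ζ ξ)) (intCast_mem _ _)
  obtain ⟨t, ht1, ht2, ht3, ht4⟩ := abstract_avg (p ^ k) τ hτ1 hτ2 (Finset.univ.filter (· ∈ B))
    (Finset.univ.filter (· ∈ B)) (Finset.Subset.refl _) (subAlpha p x b) hαmem
    (p ^ blockDefect p b) (blockRank p b)
    (pow_pos hM.1.pos _) (subAlpha_sq hM x ⟨k, hx⟩ hind) (subAlpha_trace hM x ⟨k, hx⟩ hind)
    (fun χ hχ ψ hψ => hne χ (Finset.mem_filter.1 hχ).2 ψ (Finset.mem_filter.1 hψ).2)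
  set S := Finset.univ.filter (· ∈ B) with hS
  have h1 : (S.card : ℝ) * (S.card : ℝ) ≤ ∑ χ ∈ S, ((p ^ blockDefect p b : ℕ) : ℝ) * t χ := by
    rw [← nsmul_eq_mul, ← Finset.sum_const]
    exact Finset.sum_le_sum fun χ hχ => ht4 χ hχ
  rw [← Finset.mul_sum, ht3] at h1
  have h5 : S.card * S.card ≤ p ^ blockDefect p b * (p ^ blockDefect p b * blockRank p b) := by
    exact_mod_cast h1
  calc S.card ^ 2 = S.card * S.card := sq _
    _ ≤ p ^ blockDefect p b * (p ^ blockDefect p b * blockRank p b) := h5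
    _ = p ^ (2 * blockDefect p b) * blockRank p b := by rw [two_mul, pow_add]; ring

/-- **`k(B) ≤ p^d`** if some major subsection `(x, b)` has `l(b) = 1`. -/
theorem card_le_of_major_rank_one (hM : IsPModular p M) (x : G) (hx : ∃ k : ℕ, orderOf x = p ^ k)
    {B : Set (IrrCharacter G)} {b : Set (IrrCharacter (Cen x))}
    (hind : IsInducedBlock M (Cen x) b B) (hmaj : blockDefect p b = blockDefect p B)
    (hl : blockRank p b = 1) : Nat.card B ≤ p ^ blockDefect p B := by
  classical
  obtain ⟨k, hk⟩ := hx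
  have h1 := sq_card_le_of_ne_zero hM x hk hind
    (fun χ hχ ψ hψ => subAlpha_ne_zero_of_rank_one hM x hk hind hmaj hl hχ hψ)
  rw [hl, mul_one, hmaj, mul_comm 2, pow_mul] at h1
  have h2 : (Finset.univ.filter (· ∈ B)).card ≤ p ^ blockDefect p B :=
    (Nat.pow_le_pow_iff_left (by norm_num)).1 h1
  have h3 : Nat.card B = (Finset.univ.filter (· ∈ B)).card := by
    rw [Nat.card_eq_fintype_card, Fintype.card_subtype]
  rwa [h3]

end G

end Cfsg.Agent.Lib.Helper77b
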